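import Groth.Agent.TFGeo7.Decomp

/-! Extremal choices among modifications, on the closed fibre. -/

set_option autoImplicit false
set_option maxHeartbeats 400000
set_option backward.isDefEq.respectTransparency false
set_option backward.isDefEq.respectTransparency.types false
set_option linter.unusedSectionVars false
set_option linter.style.haveILetI false

universe u

open CategoryTheory CategoryTheory.Limits AlgebraicGeometry TopologicalSpace Opposite

noncomputable section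

namespace Groth.Agent.TFGeo7

open Groth.Agent Groth.Agent.TFQuot7 CycK

/-- The union of the components outside `T`. -/
def cpl {X : Scheme.{u}} (T : Set X) : Set X :=
  ⋃₀ {C | C ∈ irreducibleComponents (X : Type u) ∧ ¬ C ⊆ T}

variable {k : Type u} [Field k] {X : Scheme.{u}} [X.Over (Spec (CommRingCat.of k))]
  [IsProper (X ↘ Spec (CommRingCat.of k))] [AlgebraicGeometry.IsReduced X]

theorem isUC_cpl (T : Set X) : IsUC (cpl T) := isUC_sUnion _

theorem cpl_nonempty {T : Set X} (hne : T ≠ Set.univ) : (cpl T).Nonempty := by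
  obtain ⟨x, hx⟩ := (Set.ne_univ_iff_exists_notMem T).1 hne
  exact ⟨x, _, ⟨irreducibleComponent_mem_irreducibleComponents x, fun h => hx (h mem_irreducibleComponent)⟩,
    mem_irreducibleComponent⟩

theorem union_cpl (T : Set X) : T ∪ cpl T = Set.univ := Set.eq_univ_of_forall fun x => by
  by_cases hx : x ∈ T
  · exact Or.inl hx
  · exact Or.inr ⟨_, ⟨irreducibleComponent_mem_irreducibleComponents x, fun h => hx (h mem_irreducibleComponent)⟩,
      mem_irreducibleComponent⟩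

include k in
theorem mem_cpl {T : Set X} (hT : IsUC T) {y : X} (hy : y ∈ genericPoints X) : y ∈ cpl T ↔ y ∉ T :=
  haveI := CurveCohLib.isNoetherian_of_proper (k := k) (X := X)
  mem_compl_iff hT.isClosed hy

theorem finite_uc [AlgebraicGeometry.IsNoetherian X] : {T : Set X | IsUC T}.Finite := by
  refine (NoetherianSpace.finite_irreducibleComponents.powerset.image Set.sUnion).subset ?_
  rintro T ⟨S, hS, rfl⟩
  exact ⟨S, hS, rfl⟩

include k in
/-- Any two quotients on a subcurve and its complement decompose, once one endomorphism does. -/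
theorem isIso_of_dec {M G G' : X.Modules} {T : Set X} {π : M ⟶ G} {π' : M ⟶ G'} (hM : TFOne.IsTF1 X M)
    (hTu : IsUC T) (hne : T.Nonempty) (hne' : T ≠ Set.univ) (hd : Dec M T) (hG : TFOne.IsQuotOn X M T G π)
    (hG' : TFOne.IsQuotOn X M (cpl T) G' π') : IsIso (biprod.lift π π') := by
  haveI := CurveCohLib.isNoetherian_of_proper (k := k) (X := X)
  obtain ⟨H, H', φ, φ', hH, hH', hiso⟩ := exists_decomp_of_dec k hM (hTu.subcurve hne)
    ((isUC_cpl T).subcurve (cpl_nonempty hne')) (fun y hy => mem_cpl (k := k) hTu hy) hd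
  obtain ⟨e, he⟩ := exists_iso_quot hM.2.2 hH hG
  obtain ⟨e', he'⟩ := exists_iso_quot hM.2.2 hH' hG'
  haveI := hiso
  rw [show biprod.lift π π' = biprod.lift φ φ' ≫ (biprod.mapIso e e').hom by
    refine biprod.hom_ext _ _ ?_ ?_ <;> simp [he, he']]
  infer_instance

include k in
theorem dec_cpl {M : X.Modules} {T : Set X} (hTu : IsUC T) (hd : Dec M T) : Dec M (cpl T) :=
  dec_compl (fun y hy => mem_cpl (k := k) hTu (mem_genericPoints_iff.2 hy)) hd

variable (k) in
/-- Every `β` of `M` is at least `m`. -/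
def BLB (E : X.Modules) (r : ℕ) (M : X.Modules) (m : ℤ) : Prop :=
  ∀ (T : Set X) (hT : IsClosed T), IsUC T → ∀ (G : X.Modules) (π : M ⟶ G), TFOne.IsQuotOn X M T G π →
    m ≤ beta k E r T hT G

variable (k) in
/-- `T` has `β = m`, and is minimal with this among the subcurves satisfying `Q`. -/
def MinAt (E : X.Modules) (r : ℕ) (M : X.Modules) (m : ℤ) (Q : Set X → Prop) (T : Set X) : Prop :=
  IsUC T ∧ Q T ∧ ∃ (hT : IsClosed T), (∀ (G : X.Modules) (π : M ⟶ G), TFOne.IsQuotOn X M T G π →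
      beta k E r T hT G = m) ∧
    ∀ (T' : Set X) (hT' : IsClosed T'), IsUC T' → Q T' → T' ⊆ T → ∀ (G : X.Modules) (π : M ⟶ G),
      TFOne.IsQuotOn X M T' G π → beta k E r T' hT' G = m → T ⊆ T'

variable {E : X.Modules} {r : ℕ} (hE : FlatMod.IsFinLocFreeOfRank r E)

theorem beta_indep {M G G' : X.Modules} {π : M ⟶ G} {π' : M ⟶ G'} (hr : TFOne.IsRkOne X M) {T : Set X}
    (hT : IsClosed T) (hG : TFOne.IsQuotOn X M T G π) (hG' : TFOne.IsQuotOn X M T G' π') :
    beta k E r T hT G = beta k E r T hT G' := by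
  unfold beta; rw [beta_congr hr hG hG']

include k in
theorem exists_blb {M : X.Modules} (hM : TFOne.IsTF1 X M) : ∃ m, BLB k E r M m := by
  haveI := CurveCohLib.isNoetherian_of_proper (k := k) (X := X)
  choose G π hG using fun T : {T : Set X | IsUC T} => exists_quotOn hM T.2
  haveI := (finite_uc (X := X)).to_subtype
  obtain ⟨m, hm⟩ := (Set.finite_range fun T : {T : Set X | IsUC T} => beta k E r T.1 T.2.isClosed (G T)).bddBelow
  exact ⟨m, fun T hT hTu G' π' hG' => (hm ⟨⟨T, hTu⟩, rfl⟩).trans_eq (beta_indep hM.2.2 hT (hG ⟨T, hTu⟩) hG')⟩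

include hE in
theorem blb_le_zero {M : X.Modules} (hM : TFOne.IsTF1 X M) {m : ℤ} (h : BLB k E r M m) : m ≤ 0 := by
  haveI := CurveCohLib.isNoetherian_of_proper (k := k) (X := X)
  obtain ⟨G, π, hG⟩ := exists_quotOn hM isUC_empty
  exact (h ∅ isClosed_empty isUC_empty G π hG).trans_eq (beta_empty hE _ hG)

theorem exists_minimiser {M : X.Modules} (hM : TFOne.IsTF1 X M) {m : ℤ} (h : BLB k E r M m)
    (h' : ¬ BLB k E r M (m + 1)) : ∃ (T : Set X) (hT : IsClosed T), IsUC T ∧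
      ∀ (G : X.Modules) (π : M ⟶ G), TFOne.IsQuotOn X M T G π → beta k E r T hT G = m := by
  unfold BLB at h'
  push Not at h'
  obtain ⟨T, hT, hTu, G, π, hG, hlt⟩ := h'
  exact ⟨T, hT, hTu, fun G' π' hG' => (beta_indep hM.2.2 hT hG' hG).trans
    (le_antisymm (Int.lt_add_one_iff.1 hlt) (h T hT hTu G π hG))⟩

include k in
theorem exists_minAt {M : X.Modules} (hM : TFOne.IsTF1 X M) {m : ℤ} {Q : Set X → Prop} {T₀ : Set X}
    (hT₀ : IsClosed T₀) (hu : IsUC T₀) (hQ : Q T₀)
    (hb : ∀ (G : X.Modules) (π : M ⟶ G), TFOne.IsQuotOn X M T₀ G π → beta k E r T₀ hT₀ G = m) :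
    ∃ T, MinAt k E r M m Q T := by
  haveI := CurveCohLib.isNoetherian_of_proper (k := k) (X := X)
  let S : Set (Set X) := {T | IsUC T ∧ Q T ∧ ∃ hT : IsClosed T, ∀ (G : X.Modules) (π : M ⟶ G),
    TFOne.IsQuotOn X M T G π → beta k E r T hT G = m}
  obtain ⟨T, hT⟩ := (finite_uc.subset fun T (hT : T ∈ S) => hT.1).exists_minimal ⟨T₀, hu, hQ, hT₀, hb⟩
  obtain ⟨hTu, hTQ, hTc, hTb⟩ := hT.1
  exact ⟨T, hTu, hTQ, hTc, hTb, fun T' hT' hu' hQ' hsub G π hG hb' =>
    hT.2 ⟨hu', hQ', hT', fun G' π' hG' => (beta_indep hM.2.2 hT' hG' hG).trans hb'⟩ hsub⟩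

section modif

variable {M N GY : X.Modules} {Y : Set X} {πY : M ⟶ GY} {δ : GY ⟶ N} {γ : N ⟶ M}
  (hmod : IsModif πY δ γ) (hM : TFOne.IsTF1 X M) (hGY : TFOne.IsQuotOn X M Y GY πY)
  (hpure : ∀ C ∈ irreducibleComponents (X : Type u), topologicalKrullDim C = 1)
  (hY : IsClosed Y) (hYu : IsUC Y)

include hmod hM hGY hpure hYu hE in
theorem blb_modif {m : ℤ} (h : BLB k E r M m) (hb : beta k E r Y hY GY = m) : BLB k E r N m := by
  intro Z hZ hZu G π hG
  haveI := CurveCohLib.isNoetherian_of_proper (k := k) (X := X)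
  have hmu : IsUC (⋃₀ {C | C ∈ irreducibleComponents (X : Type u) ∧ C ⊆ Y ∩ Z}) := isUC_sUnion _
  obtain ⟨GW, πW, hGW⟩ := exists_quotOn hM hmu
  obtain ⟨GU, πU, hGU⟩ := exists_quotOn hM (hYu.union hZu)
  obtain ⟨hle, -⟩ := beta_modif_ge (k := k) hmod hM hGY hpure hE hY hYu hZ hZu hmu.isClosed rfl hG hGW hGU
  have h1 := h _ hmu.isClosed hmu GW πW hGW
  have h2 := h _ (hY.union hZ) (hYu.union hZu) GU πU hGU
  omega

include hmod hM hGY hpure hE in
theorem minAt_modif {m : ℤ} (h : BLB k E r M m) {Q : Set X → Prop}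
    (hQ : ∀ Y Z : Set X, Q Y → Q Z → Q (⋃₀ {C | C ∈ irreducibleComponents (X : Type u) ∧ C ⊆ Y ∩ Z}))
    (hY₀ : MinAt k E r M m Q Y) {Z : Set X} (hZ₀ : MinAt k E r N m Q Z) : Y ⊆ Z := by
  obtain ⟨hYu, hYQ, hY, hYb, hYmin⟩ := hY₀
  obtain ⟨hZu, hZQ, hZ, hZb, -⟩ := hZ₀
  haveI := CurveCohLib.isNoetherian_of_proper (k := k) (X := X)
  have hmu : IsUC (⋃₀ {C | C ∈ irreducibleComponents (X : Type u) ∧ C ⊆ Y ∩ Z}) := isUC_sUnion _
  obtain ⟨G, π, hG⟩ := exists_quotOn (hmod.isTF1 hM hGY) hZu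
  obtain ⟨GW, πW, hGW⟩ := exists_quotOn hM hmu
  obtain ⟨GU, πU, hGU⟩ := exists_quotOn hM (hYu.union hZu)
  obtain ⟨hle, -⟩ := beta_modif_ge (k := k) hmod hM hGY hpure hE hY hYu hZ hZu hmu.isClosed rfl hG hGW hGU
  rw [hZb G π hG, hYb GY πY hGY] at hle
  have h1 := h _ hmu.isClosed hmu GW πW hGW
  have h2 := h _ (hY.union hZ) (hYu.union hZu) GU πU hGU
  exact (hYmin _ hmu.isClosed hmu (hQ Y Z hYQ hZQ) (Set.sUnion_subset fun C hC => hC.2.trans Set.inter_subset_left)
    GW πW hGW (by omega)).trans (Set.sUnion_subset fun C hC => hC.2.trans Set.inter_subset_right)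

include hmod hM hGY hpure hYu in
theorem dec_modif (hr : 0 < r)
    (hb : ∀ (G : X.Modules) (π : N ⟶ G), TFOne.IsQuotOn X N Y G π → beta k E r Y hY G = beta k E r Y hY GY) :
    Dec N Y := by
  haveI := CurveCohLib.isNoetherian_of_proper (k := k) (X := X)
  have hN := hmod.isTF1 hM hGY
  obtain ⟨G1, π1, hG1⟩ := exists_quotOn hN hYu
  obtain ⟨G2, π2, hG2⟩ := exists_quotOn hN (isUC_cpl Y)
  have h := hb G1 π1 hG1
  unfold beta at h
  have he : Curv2.euler k X G1 = Curv2.euler k X GY :=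
    mul_left_cancel₀ (show (r : ℤ) ≠ 0 by omega) (by linarith)
  exact dec_of_iso hN.2.2 hG1 hG2 ((isIso_lift_iff (k := k) hmod hM hGY hpure hY rfl hG1 hG2).2 he)

end modif

include hE in
theorem beta_dec_zero (hpure : ∀ C ∈ irreducibleComponents (X : Type u), topologicalKrullDim C = 1) {M : X.Modules}
    (hM : TFOne.IsTF1 X M) {d : ℤ} (hχ : Curv2.euler k X M = d) (hEd : Curv2.deg k X E r = -(r : ℤ) * d)
    (h : BLB k E r M 0) {T : Set X} (hT : IsClosed T) (hTu : IsUC T) (hne : T.Nonempty) (hne' : T ≠ Set.univ)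
    (hd : Dec M T) {G : X.Modules} {π : M ⟶ G} (hG : TFOne.IsQuotOn X M T G π) : beta k E r T hT G = 0 := by
  haveI := CurveCohLib.isNoetherian_of_proper (k := k) (X := X)
  have hcu := isUC_cpl T
  obtain ⟨G', π', hG'⟩ := exists_quotOn hM hcu
  haveI := isIso_of_dec (k := k) hM hTu hne hne' hd hG hG'
  have he : Curv2.euler k X G + Curv2.euler k X G' = d := by
    rw [← euler_biprod k hG.2.1 hG'.2.1, ← CurveCohLib.euler_congr (k := k) (asIso (biprod.lift π π')), hχ]
  have hdeg := degOn_union_add_meet k hpure hE hT hcu.isClosed isClosed_empty hTu hcu isUC_empty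
    (Set.empty_subset _) (Set.empty_subset _) fun y hy h1 h2 => absurd h1 ((mem_cpl (k := k) hTu hy).1 h2)
  rw [degOn_empty k hE, add_zero] at hdeg
  simp only [union_cpl T] at hdeg
  rw [degOn_univ k hE, hEd] at hdeg
  have h1 := h T hT hTu G π hG
  have h2 := h _ hcu.isClosed hcu G' π' hG'
  unfold beta at h1 h2 ⊢
  have := congrArg (fun z : ℤ => (r : ℤ) * z) he
  simp only [mul_add] at this
  linarith

end Groth.Agent.TFGeo7

end
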