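import Groth.Agent.TFGeo7.Family
import Groth.Agent.TFGeo7.Special

/-! Extensions of a module on the generic fibre that are extremal under modifications. -/

set_option autoImplicit false
set_option maxHeartbeats 400000
set_option backward.isDefEq.respectTransparency false
set_option backward.isDefEq.respectTransparency.types false
set_option linter.unusedSectionVars false
set_option linter.style.haveILetI false

universe u

open CategoryTheory CategoryTheory.Limits AlgebraicGeometry TopologicalSpace Opposite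

noncomputable section

namespace Groth.Agent.TFGeo7

open Groth.Agent Groth.Agent.TFQuot7 CycK

local notation "κ[" R "]" => IsLocalRing.ResidueField R

variable {R : Type u} [CommRing R] [IsDomain R] [IsDiscreteValuationRing R] {X : Scheme.{u}}
  (f : X ⟶ Spec (CommRingCat.of R)) [IsProper f] {Xs : Scheme.{u}} [Xs.Over (Spec (CommRingCat.of κ[R]))]
  (i : Xs ⟶ X)
  (hsq : IsPullback i (Xs ↘ Spec (CommRingCat.of κ[R])) f (Spec.map (CommRingCat.ofHom (IsLocalRing.residue R))))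
  [AlgebraicGeometry.IsReduced Xs]
  (hpure : ∀ C ∈ irreducibleComponents (Xs : Type u), topologicalKrullDim C = 1)
  (hgi : ∀ (C : Set Xs) (hC : C ∈ irreducibleComponents (Xs : Type u)),
    GeometricallyIntegral (VecSt.subschι Xs C (isClosed_of_mem_irreducibleComponents C hC) ≫
      (Xs ↘ Spec (CommRingCat.of κ[R]))))
  {Xg : Scheme.{u}} [Xg.Over (Spec (CommRingCat.of (FractionRing R)))] (j : Xg ⟶ X)
  (hgen : IsPullback j (Xg ↘ Spec (CommRingCat.of (FractionRing R))) f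
    (Spec.map (CommRingCat.ofHom (algebraMap R (FractionRing R)))))

/-- `J` is an extension of the generic fibre of `I`, with the Euler characteristic of `I` on the closed fibre. -/
def Good (I J : X.Modules) : Prop :=
  TFOne.IsRelTF1 f J ∧ Nonempty ((Scheme.Modules.pullback j).obj J ≅ (Scheme.Modules.pullback j).obj I) ∧
    Curv2.euler κ[R] Xs ((Scheme.Modules.pullback i).obj J) = Curv2.euler κ[R] Xs ((Scheme.Modules.pullback i).obj I)

variable {f i j} {I J : X.Modules}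

theorem good_self (hI : TFOne.IsRelTF1 f I) : Good f i j I I := ⟨hI, ⟨Iso.refl _⟩, rfl⟩

theorem Good.coh (h : Good f i j I J) : Coh.IsCoh J := ⟨QCoh.isQCoh_of_isFP h.1.2.1, QCoh.isFT_of_isFP h.1.2.1⟩

theorem Good.flat (h : Good f i j I J) : FlatMod.IsFlatOver f J := h.1.1

include hsq hgi in
theorem Good.tf (h : Good f i j I J) : TFOne.IsTF1 Xs ((Scheme.Modules.pullback i).obj J) :=
  isTF1_special f hsq hgi h.1

include hsq hgi hgen in
theorem good_step (h : Good f i j I J) {T : Set Xs} {G : Xs.Modules} {π : (Scheme.Modules.pullback i).obj J ⟶ G}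
    (hG : TFOne.IsQuotOn Xs ((Scheme.Modules.pullback i).obj J) T G π) :
    Good f i j I (kernel (qMap i π)) ∧ ∃ δ γ, IsModif (N := (Scheme.Modules.pullback i).obj (kernel (qMap i π))) π δ γ := by
  obtain ⟨hJ', ⟨e⟩, δ, γ, hmod⟩ := relTF1_modification f hsq hgi hgen h.1 hG
  obtain ⟨e₀⟩ := h.2.1
  haveI := proper_special f hsq
  haveI := CurveCohLib.isNoetherian_of_proper (k := κ[R]) (X := Xs)
  have ht := isTF1_special f hsq hgi h.1
  haveI := hG.1
  exact ⟨⟨hJ', ⟨e ≪≫ e₀⟩, (hmod.euler_eq ht hG κ[R] hG.2.1 ht.1).trans h.2.2⟩, δ, γ, hmod⟩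

include hsq hgi hgen hpure in
/-- The extremal extensions for a condition on `β`: they are stable under modification, and decompose. -/
theorem exists_stationary {E : Xs.Modules} {r : ℕ} (hr : 0 < r) (hE : FlatMod.IsFinLocFreeOfRank r E) (m : ℤ)
    (Q : Set Xs → Prop)
    (hQ : ∀ Y Z : Set Xs, Q Y → Q Z → Q (⋃₀ {C | C ∈ irreducibleComponents (Xs : Type u) ∧ C ⊆ Y ∩ Z}))
    (hex : ∀ J, Good f i j I J → BLB κ[R] E r ((Scheme.Modules.pullback i).obj J) m →
      ∃ T, MinAt κ[R] E r ((Scheme.Modules.pullback i).obj J) m Q T)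
    {J₀ : X.Modules} (h₀ : Good f i j I J₀) (hb₀ : BLB κ[R] E r ((Scheme.Modules.pullback i).obj J₀) m) :
    ∃ (T : Set Xs) (P : X.Modules → Prop), (∃ J, P J) ∧ ∀ J, P J → Good f i j I J ∧
      BLB κ[R] E r ((Scheme.Modules.pullback i).obj J) m ∧
      MinAt κ[R] E r ((Scheme.Modules.pullback i).obj J) m Q T ∧ Dec ((Scheme.Modules.pullback i).obj J) T ∧
      ∀ (G : Xs.Modules) (π : (Scheme.Modules.pullback i).obj J ⟶ G),
        TFOne.IsQuotOn Xs ((Scheme.Modules.pullback i).obj J) T G π → P (kernel (qMap i π)) := by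
  haveI := proper_special f hsq
  haveI := CurveCohLib.isNoetherian_of_proper (k := κ[R]) (X := Xs)
  let A : Set (Set Xs) := {T | ∃ J, Good f i j I J ∧ BLB κ[R] E r ((Scheme.Modules.pullback i).obj J) m ∧
    MinAt κ[R] E r ((Scheme.Modules.pullback i).obj J) m Q T}
  obtain ⟨T₀, hT₀⟩ := hex J₀ h₀ hb₀
  obtain ⟨T, hT⟩ := (finite_uc.subset fun T (hT : T ∈ A) => hT.choose_spec.2.2.1).exists_maximal
    ⟨T₀, J₀, h₀, hb₀, hT₀⟩
  have hstep : ∀ J, Good f i j I J → BLB κ[R] E r ((Scheme.Modules.pullback i).obj J) m →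
      MinAt κ[R] E r ((Scheme.Modules.pullback i).obj J) m Q T → ∀ (G : Xs.Modules) π,
      TFOne.IsQuotOn Xs ((Scheme.Modules.pullback i).obj J) T G π → Good f i j I (kernel (qMap i π)) ∧
      BLB κ[R] E r ((Scheme.Modules.pullback i).obj (kernel (qMap i π))) m ∧
      MinAt κ[R] E r ((Scheme.Modules.pullback i).obj (kernel (qMap i π))) m Q T ∧
      Dec ((Scheme.Modules.pullback i).obj (kernel (qMap i π))) T := by
    intro J hJ hb hmin G π hG
    obtain ⟨hg, δ, γ, hmod⟩ := good_step hsq hgi hgen hJ hG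
    have ht := hJ.tf hsq hgi
    obtain ⟨hTu, -, hTc, hTb, -⟩ := id hmin
    have hb' := blb_modif hE hmod ht hG hpure hTc hTu hb (hTb G π hG)
    obtain ⟨T₁, hT₁⟩ := hex _ hg hb'
    have hle : T ⊆ T₁ := minAt_modif hE hmod ht hG hpure hb hQ hmin hT₁
    have heq : T₁ = T := Set.Subset.antisymm (hT.2 ⟨_, hg, hb', hT₁⟩ hle) hle
    subst heq
    obtain ⟨hu₁, -, hc₁, hb₁, -⟩ := id hT₁
    exact ⟨hg, hb', hT₁, dec_modif hmod ht hG hpure hc₁ hu₁ hr fun G' π' hG' => (hb₁ G' π' hG').trans (hTb G π hG).symm⟩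
  obtain ⟨J, hJ, hb, hmin⟩ := hT.1
  obtain ⟨G, π, hG⟩ := exists_quotOn (hJ.tf hsq hgi) hmin.1
  exact ⟨T, fun J => Good f i j I J ∧ BLB κ[R] E r ((Scheme.Modules.pullback i).obj J) m ∧
      MinAt κ[R] E r ((Scheme.Modules.pullback i).obj J) m Q T ∧ Dec ((Scheme.Modules.pullback i).obj J) T,
    ⟨_, hstep J hJ hb hmin G π hG⟩,
    fun J h => ⟨h.1, h.2.1, h.2.2.1, h.2.2.2, fun G π hG => hstep J h.1 h.2.1 h.2.2.1 G π hG⟩⟩

include hsq hgi hgen in
/-- Either some extension does not decompose, or extremal ones decompose in a stable way. -/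
theorem exists_indecomposable_or (S : X.Modules → Prop) {J₀ : X.Modules} (h₀ : Good f i j I J₀) (hS₀ : S J₀)
    (hS : ∀ J (T : Set Xs), Good f i j I J → S J → IsUC T → T.Nonempty → T ≠ Set.univ →
      Dec ((Scheme.Modules.pullback i).obj J) T → ∀ (G : Xs.Modules) (π : (Scheme.Modules.pullback i).obj J ⟶ G),
        TFOne.IsQuotOn Xs ((Scheme.Modules.pullback i).obj J) T G π → S (kernel (qMap i π))) :
    (∃ J, Good f i j I J ∧ S J ∧ ∀ T, IsUC T → T.Nonempty → T ≠ Set.univ →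
        ¬ Dec ((Scheme.Modules.pullback i).obj J) T) ∨
      ∃ (T : Set Xs) (P : X.Modules → Prop), IsUC T ∧ T.Nonempty ∧ T ≠ Set.univ ∧ (∃ J, P J) ∧
        ∀ J, P J → Good f i j I J ∧ Dec ((Scheme.Modules.pullback i).obj J) T ∧
          Dec ((Scheme.Modules.pullback i).obj J) (cpl T) ∧
          ∀ T', (T' = T ∨ T' = cpl T) → ∀ (G : Xs.Modules) (π : (Scheme.Modules.pullback i).obj J ⟶ G),
            TFOne.IsQuotOn Xs ((Scheme.Modules.pullback i).obj J) T' G π → P (kernel (qMap i π)) := by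
  haveI := proper_special f hsq
  haveI := CurveCohLib.isNoetherian_of_proper (k := κ[R]) (X := Xs)
  let DS : X.Modules → Set (Set Xs) := fun J =>
    {T | IsUC T ∧ T.Nonempty ∧ T ≠ Set.univ ∧ Dec ((Scheme.Modules.pullback i).obj J) T}
  classical
  have hne : ∃ n J, Good f i j I J ∧ S J ∧ (DS J).ncard = n := ⟨_, J₀, h₀, hS₀, rfl⟩
  obtain ⟨J₁, hJ₁, hS₁, hn⟩ := Nat.find_spec hne
  have hmin : ∀ J, Good f i j I J → S J → (DS J₁).ncard ≤ (DS J).ncard := fun J h1 h2 =>
    hn.le.trans (Nat.find_le ⟨J, h1, h2, rfl⟩)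
  by_cases hD : (DS J₁).Nonempty
  · obtain ⟨T, hTu, hTne, hTne', hTd⟩ := hD
    right
    refine ⟨T, fun J => Good f i j I J ∧ S J ∧ DS J = DS J₁, hTu, hTne, hTne', ⟨J₁, hJ₁, hS₁, rfl⟩, ?_⟩
    rintro J ⟨hJ, hSJ, hDS⟩
    have hT : T ∈ DS J := hDS.ge ⟨hTu, hTne, hTne', hTd⟩
    have hcd := dec_cpl (k := κ[R]) hTu hT.2.2.2
    refine ⟨hJ, hT.2.2.2, hcd, fun T' hT' G π hG => ?_⟩
    have h : IsUC T' ∧ T'.Nonempty ∧ T' ≠ Set.univ ∧ Dec ((Scheme.Modules.pullback i).obj J) T' := by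
      rcases hT' with rfl | rfl
      · exact hT
      · refine ⟨isUC_cpl T, cpl_nonempty hTne', fun h => ?_, hcd⟩
        obtain ⟨y, hy, hyT⟩ := exists_generic_of_subcurve (hTu.subcurve hTne)
        exact (mem_cpl (k := κ[R]) hTu hy).1 (h.ge trivial) hyT
    obtain ⟨hg, δ, γ, hmod⟩ := good_step hsq hgi hgen hJ hG
    have hS' := hS J T' hJ hSJ h.1 h.2.1 h.2.2.1 h.2.2.2 G π hG
    have hsub : DS (kernel (qMap i π)) ⊆ DS J₁ := fun Z hZ => hDS ▸
      ⟨hZ.1, hZ.2.1, hZ.2.2.1, dec_of_modif hmod (hJ.tf hsq hgi) hG h.2.2.2 hZ.2.2.2⟩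
    exact ⟨hg, hS', Set.eq_of_subset_of_ncard_le hsub (hmin _ hg hS') (finite_uc.subset fun Z hZ => hZ.1)⟩
  · exact Or.inl ⟨J₁, hJ₁, hS₁, fun T h1 h2 h3 h4 => hD ⟨T, h1, h2, h3, h4⟩⟩

end Groth.Agent.TFGeo7

end
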