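import Groth.Agent.TFGeo7.Fibres
import Groth.Agent.TFGeo7.Good
import Groth.Agent.GrpSchLib.SmoothRegular
import Groth.Agent.RegLoc6.Basic
import Groth.Agent.H23.FinCondSch
import Groth.Agent.RepTop7.Dim

/-! Semistable, simple and quasistable extensions over a discrete valuation ring. -/

set_option autoImplicit false
set_option maxHeartbeats 400000
set_option backward.isDefEq.respectTransparency false
set_option backward.isDefEq.respectTransparency.types false
set_option linter.unusedSectionVars false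
set_option linter.style.haveILetI false

universe u

open CategoryTheory CategoryTheory.Limits AlgebraicGeometry TopologicalSpace Opposite

noncomputable section

namespace Groth.Agent.TFGeo7

open Groth.Agent Groth.Agent.TFQuot7 CycK

local notation "κ[" R "]" => IsLocalRing.ResidueField R

variable {R : Type u} [CommRing R] [IsDomain R] [IsDiscreteValuationRing R] {X : Scheme.{u}}
  (f : X ⟶ Spec (CommRingCat.of R)) [Flat f] [IsProper f] {Xs : Scheme.{u}} [Xs.Over (Spec (CommRingCat.of κ[R]))]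
  {i : Xs ⟶ X}
  (hsq : IsPullback i (Xs ↘ Spec (CommRingCat.of κ[R])) f (Spec.map (CommRingCat.ofHom (IsLocalRing.residue R))))
  [AlgebraicGeometry.IsReduced Xs]
  (hpure : ∀ C ∈ irreducibleComponents (Xs : Type u), topologicalKrullDim C = 1)
  (hgi : ∀ (C : Set Xs) (hC : C ∈ irreducibleComponents (Xs : Type u)),
    GeometricallyIntegral (VecSt.subschι Xs C (isClosed_of_mem_irreducibleComponents C hC) ≫
      (Xs ↘ Spec (CommRingCat.of κ[R]))))
  {Xg : Scheme.{u}} [Xg.Over (Spec (CommRingCat.of (FractionRing R)))] {j : Xg ⟶ X}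
  (hgen : IsPullback j (Xg ↘ Spec (CommRingCat.of (FractionRing R))) f
    (Spec.map (CommRingCat.ofHom (algebraMap R (FractionRing R)))))

theorem spec_lift {R K : Type u} [CommRing R] [IsDomain R] [Field K] (ψ : R →+* K) (h : Function.Injective ψ) :
    Spec.map (CommRingCat.ofHom (IsFractionRing.lift h : FractionRing R →+* K)) ≫
      Spec.map (CommRingCat.ofHom (algebraMap R (FractionRing R))) = Spec.map (CommRingCat.ofHom ψ) := by
  rw [← Spec.map_comp]
  congr 1
  exact CommRingCat.hom_ext (RingHom.ext fun a => IsFractionRing.lift_algebraMap h a)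

/-- A completion of the base and a geometric point of its generic point. -/
structure Completed (ϖ : R) (j : Xg ⟶ X) where
  R' : Type u
  [cr : CommRing R']
  [dom : IsDomain R']
  [dvr : IsDiscreteValuationRing R']
  [alg : Algebra R R']
  [flat : Module.Flat R R']
  max : IsLocalRing.maximalIdeal R' = Ideal.span {algebraMap R R' ϖ}
  [complete : IsAdicComplete (Ideal.span {algebraMap R R' ϖ}) R']
  X' : Scheme.{u}
  f' : X' ⟶ Spec (CommRingCat.of R')
  g : X' ⟶ X
  hpb : IsPullback g f' f (Spec.map (CommRingCat.ofHom (algebraMap R R')))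
  [surj : Surjective g]
  Ω : Type u
  [fld : Field Ω]
  [closed : IsAlgClosed Ω]
  [algΩ : Algebra R' Ω]
  hΩ : Function.Injective (algebraMap R' Ω)
  Y : Scheme.{u}
  [ovr : Y.Over (Spec (CommRingCat.of Ω))]
  iY : Y ⟶ X'
  sq : IsPullback iY (Y ↘ Spec (CommRingCat.of Ω)) f' (Spec.map (CommRingCat.ofHom (algebraMap R' Ω)))
  tg : Spec (CommRingCat.of Ω) ⟶ Spec (CommRingCat.of (FractionRing R))
  ht : tg ≫ Spec.map (CommRingCat.ofHom (algebraMap R (FractionRing R))) =
    Spec.map (CommRingCat.ofHom (algebraMap R' Ω)) ≫ Spec.map (CommRingCat.ofHom (algebraMap R R'))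
  iYg : Y ⟶ Xg
  sqg : IsPullback iYg (Y ↘ Spec (CommRingCat.of Ω)) (Xg ↘ Spec (CommRingCat.of (FractionRing R))) tg
  comm : iY ≫ g = iYg ≫ j
  [red : AlgebraicGeometry.IsReduced Y]
  dim : topologicalKrullDim Y ≤ (1 : ℕ)
  [proper : IsProper (Y ↘ Spec (CommRingCat.of Ω))]

attribute [instance] Completed.cr Completed.dom Completed.dvr Completed.alg Completed.flat Completed.complete
  Completed.surj Completed.fld Completed.closed Completed.algΩ Completed.ovr Completed.red Completed.proper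

include hpure in
theorem dim_special : topologicalKrullDim Xs ≤ (1 : ℕ) :=
  RepTop7.topologicalKrullDim_le_of_components 1 fun C hC => (hpure C hC).trans Nat.cast_one.symm

include hsq hpure hgi hgen in
theorem nonempty_completed (ϖ : R) (hϖ : IsLocalRing.maximalIdeal R = Ideal.span {ϖ}) :
    Nonempty (Completed f ϖ j) := by
  obtain ⟨R', _, _, _, _, hfl, hmax, hc, hinj⟩ := exists_completion ϖ hϖ
  haveI := hfl
  haveI := hc
  let gb := Spec.map (CommRingCat.ofHom (algebraMap R R'))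
  have hpb : IsPullback (pullback.fst f gb) (pullback.snd f gb) f gb := IsPullback.of_hasPullback _ _
  haveI := surjective_bc f ϖ hϖ hmax (pullback.snd f gb) (pullback.fst f gb) hpb hinj
  let Ω := AlgebraicClosure (FractionRing R')
  letI : Algebra R' Ω := ((algebraMap (FractionRing R') Ω).comp (algebraMap R' (FractionRing R'))).toAlgebra
  have hΩ : Function.Injective (algebraMap R' Ω) :=
    (algebraMap (FractionRing R') Ω).injective.comp (IsFractionRing.injective R' (FractionRing R'))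
  let t := Spec.map (CommRingCat.ofHom (algebraMap R' Ω))
  let Y := pullback (pullback.snd f gb) t
  letI : Y.Over (Spec (CommRingCat.of Ω)) := ⟨pullback.snd _ _⟩
  have sq : IsPullback (pullback.fst _ t) (Y ↘ Spec (CommRingCat.of Ω)) (pullback.snd f gb) t :=
    IsPullback.of_hasPullback _ _
  have hinj' : Function.Injective ((algebraMap R' Ω).comp (algebraMap R R')) := hΩ.comp hinj
  let tg := Spec.map (CommRingCat.ofHom (IsFractionRing.lift hinj' : FractionRing R →+* Ω))
  have ht : tg ≫ Spec.map (CommRingCat.ofHom (algebraMap R (FractionRing R))) = t ≫ gb := by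
    refine (spec_lift _ hinj').trans ?_
    rw [← Spec.map_comp]
    rfl
  have sqX := sq.paste_horiz hpb
  rw [← ht] at sqX
  let iYg : Y ⟶ Xg := hgen.lift (pullback.fst _ t ≫ pullback.fst f gb) ((Y ↘ Spec (CommRingCat.of Ω)) ≫ tg)
    (by rw [sqX.w, Category.assoc])
  have h1 : iYg ≫ j = pullback.fst _ t ≫ pullback.fst f gb := hgen.lift_fst _ _ _
  obtain ⟨hred, hdim⟩ := fibre_props f hsq hgi (dim_special hpure) Ω _ _ _ sqX
  haveI := hred
  haveI : IsProper (Y ↘ Spec (CommRingCat.of Ω)) := MorphismProperty.of_isPullback sqX inferInstance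
  exact ⟨{ R' := R', max := hmax, X' := _, f' := _, g := _, hpb := hpb, Ω := Ω, hΩ := hΩ, Y := Y, iY := _, sq := sq,
           tg := tg, ht := ht, iYg := iYg, sqg := IsPullback.of_right (h1.symm ▸ sqX) (hgen.lift_snd _ _ _) hgen,
           comm := h1.symm, dim := hdim }⟩

variable {f} {ϖ : R} (hϖ : IsLocalRing.maximalIdeal R = Ideal.span {ϖ}) (c : Completed f ϖ j)

/-- A module pulled back to the geometric generic point, in two ways. -/
def Completed.down (M : X.Modules) :
    (Scheme.Modules.pullback c.iY).obj ((Scheme.Modules.pullback c.g).obj M) ≅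
      (Scheme.Modules.pullback c.iYg).obj ((Scheme.Modules.pullback j).obj M) :=
  compIso c.iY c.g M ≪≫ (Scheme.Modules.pullbackCongr c.comm).app M ≪≫ (compIso c.iYg j M).symm

def Completed.downIso {J I : X.Modules} (e : (Scheme.Modules.pullback j).obj J ≅ (Scheme.Modules.pullback j).obj I) :
    (Scheme.Modules.pullback c.iY).obj ((Scheme.Modules.pullback c.g).obj J) ≅
      (Scheme.Modules.pullback c.iYg).obj ((Scheme.Modules.pullback j).obj I) :=
  c.down J ≪≫ (Scheme.Modules.pullback c.iYg).mapIso e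

variable {I : X.Modules}

include hsq hpure hgi hϖ in
/-- A stable family of decomposed extensions has a limit. -/
theorem exists_isLim {T : Set Xs} (hTu : IsUC T) (hne : T.Nonempty) (hne' : T ≠ Set.univ) (P : X.Modules → Prop)
    (hP : ∀ J, P J → Good f i j I J ∧ Dec ((Scheme.Modules.pullback i).obj J) T ∧
      ∀ (G : Xs.Modules) (π : (Scheme.Modules.pullback i).obj J ⟶ G),
        TFOne.IsQuotOn Xs ((Scheme.Modules.pullback i).obj J) T G π → P (kernel (qMap i π)))
    {J₀ : X.Modules} (h₀ : P J₀) :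
    ∃ (G : Xs.Modules) (π : (Scheme.Modules.pullback i).obj J₀ ⟶ G),
      TFOne.IsQuotOn Xs ((Scheme.Modules.pullback i).obj J₀) T G π ∧ ∃ F p τ, IsLim i ϖ c.f' c.g π F p τ := by
  haveI := proper_special f hsq
  haveI := CurveCohLib.isNoetherian_of_proper (k := κ[R]) (X := Xs)
  choose GT πT hGT using fun J : {J : X.Modules // P J} => exists_quotOn ((hP J.1 J.2).1.tf hsq hgi) hTu
  choose GT' πT' hGT' using fun J : {J : X.Modules // P J} => exists_quotOn ((hP J.1 J.2).1.tf hsq hgi) (isUC_cpl T)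
  let In : ℕ → {J : X.Modules // P J} := fun n => Nat.rec ⟨J₀, h₀⟩
    (fun _ J => ⟨kernel (qMap i (πT J)), (hP J.1 J.2).2.2 _ _ (hGT J)⟩) n
  obtain ⟨C, e, e', hq⟩ := exists_chain f i hsq ϖ hϖ hpure (fun n => (In n).1) (hP J₀ h₀).1.coh (hP J₀ h₀).1.flat
    ((hP J₀ h₀).1.tf hsq hgi) T hTu.isClosed (cpl T) rfl (fun n => GT (In n)) (fun n => GT' (In n))
    (fun n => πT (In n)) (fun n => πT' (In n)) (fun n => hGT (In n)) (fun n => hGT' (In n)) (fun n => rfl)
    (fun n => isIso_of_dec (k := κ[R]) ((hP _ (In n).2).1.tf hsq hgi) hTu hne hne' (hP _ (In n).2).2.1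
      (hGT (In n)) (hGT' (In n)))
  exact ⟨GT ⟨J₀, h₀⟩, πT ⟨J₀, h₀⟩, hGT _, exists_lim f i ϖ c.f' c.g c.hpb C (πT ⟨J₀, h₀⟩) e e' hq c.max⟩

/-! ### Simplicity -/

include hsq hpure hgi hgen in
theorem nonempty_special
    (hIg : TFOne.FibSimple (Xg ↘ Spec (CommRingCat.of (FractionRing R))) ((Scheme.Modules.pullback j).obj I)) :
    Nonempty Xs := by
  obtain ⟨ϖ, hϖ⟩ := IsDiscreteValuationRing.exists_irreducible R
  have hϖ' := (IsDiscreteValuationRing.irreducible_iff_uniformizer ϖ).1 hϖ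
  obtain ⟨c⟩ := nonempty_completed f hsq hpure hgi hgen ϖ hϖ'
  have h := hIg c.Ω c.tg c.Y c.iYg _ c.sqg
  obtain ⟨y⟩ : Nonempty c.Y := by
    by_contra he
    exact h.1 (CurveCohLib.isZero_of_subsingleton_stalks fun y => absurd ⟨y⟩ he)
  have hmem : IsLocalRing.closedPoint R ∈ Set.range f :=
    (f.isClosedMap.isClosed_range).stableUnderSpecialization
      (IsLocalRing.specializes_closedPoint (f (c.g (c.iY y)))) ⟨_, rfl⟩
  obtain ⟨x, hx⟩ := hmem
  obtain ⟨z, -, -⟩ := Scheme.exists_preimage_of_isPullback hsq x (IsLocalRing.closedPoint κ[R])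
    (hx.trans (IsLocalRing.comap_closedPoint (IsLocalRing.residue R)).symm)
  exact ⟨z⟩

include hsq hgi hgen in
theorem fibSimple_of_special [Nonempty Xs] {J : X.Modules} (hJ : Good f i j I J)
    (hd : ∀ T, IsUC T → T.Nonempty → T ≠ Set.univ → ¬ Dec ((Scheme.Modules.pullback i).obj J) T)
    (hIg : TFOne.FibSimple (Xg ↘ Spec (CommRingCat.of (FractionRing R))) ((Scheme.Modules.pullback j).obj I)) :
    TFOne.FibSimple f J := by
  haveI := proper_special f hsq
  haveI := CurveCohLib.isNoetherian_of_proper (k := κ[R]) (X := Xs)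
  have ht := hJ.tf hsq hgi
  refine fibre_cases f hsq hgi hgen
    (fun Ω _ _ _ Y iY qY => TFOne.IsSimple Y Ω qY ((Scheme.Modules.pullback iY).obj J)) ?_ ?_
  · intro Ω _ _ _ Y _ D
    haveI := D.noetherian'
    refine isSimple_congr (compIso D.h i J) ?_
    by_contra hns
    obtain ⟨T, T', G, G', π, π', hT, hTne, -, hG, hG', hiso⟩ :=
      D.exists_decomp_of_not_simple ht (isTF1_geom f hsq hJ.1 Ω D) hns
    refine hd T (IsUC.of_subcurve hT) ?_ hTne (dec_of_iso ht.2.2 hG hG' hiso)
    obtain ⟨y, -, hy⟩ := exists_generic_of_subcurve hT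
    exact ⟨y, hy⟩
  · intro Ω _ _ tg Y iY qY hY
    obtain ⟨e⟩ := hJ.2.1
    haveI : IsProper qY := MorphismProperty.of_isPullback (hY.paste_horiz hgen) inferInstance
    haveI : AlgebraicGeometry.IsNoetherian Y := noetherian_of_proper' qY
    exact isSimple_congr ((Scheme.Modules.pullback iY).mapIso e.symm ≪≫ compIso iY j J) (hIg Ω tg Y iY qY hY)
where
  noetherian_of_proper' {Ω : Type u} [Field Ω] {Y : Scheme.{u}} (q : Y ⟶ Spec (CommRingCat.of Ω)) [IsProper q] :
      AlgebraicGeometry.IsNoetherian Y :=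
    letI : Y.Over (Spec (CommRingCat.of Ω)) := ⟨q⟩
    haveI : IsProper (Y ↘ Spec (CommRingCat.of Ω)) := ‹IsProper q›
    CurveCohLib.isNoetherian_of_proper (k := Ω) (X := Y)

include hsq hpure hgi hgen in
/-- Extensions that decompose stably contradict simplicity of the generic fibre. -/
theorem false_of_stable_dec {T : Set Xs} (hTu : IsUC T) (hne : T.Nonempty) (hne' : T ≠ Set.univ)
    (P : X.Modules → Prop) (hex : ∃ J, P J)
    (hP : ∀ J, P J → Good f i j I J ∧ Dec ((Scheme.Modules.pullback i).obj J) T ∧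
      Dec ((Scheme.Modules.pullback i).obj J) (cpl T) ∧
      ∀ T', (T' = T ∨ T' = cpl T) → ∀ (G : Xs.Modules) (π : (Scheme.Modules.pullback i).obj J ⟶ G),
        TFOne.IsQuotOn Xs ((Scheme.Modules.pullback i).obj J) T' G π → P (kernel (qMap i π)))
    (hIg : TFOne.FibSimple (Xg ↘ Spec (CommRingCat.of (FractionRing R))) ((Scheme.Modules.pullback j).obj I)) :
    False := by
  obtain ⟨ϖ, hϖ⟩ := IsDiscreteValuationRing.exists_irreducible R
  have hϖ' := (IsDiscreteValuationRing.irreducible_iff_uniformizer ϖ).1 hϖ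
  obtain ⟨c⟩ := nonempty_completed f hsq hpure hgi hgen ϖ hϖ'
  haveI := proper_special f hsq
  haveI := CurveCohLib.isNoetherian_of_proper (k := κ[R]) (X := Xs)
  obtain ⟨J, hJ⟩ := hex
  have hc : cpl T ≠ Set.univ := fun h => by
    obtain ⟨y, hy, hyT⟩ := exists_generic_of_subcurve (hTu.subcurve hne)
    exact (mem_cpl (k := κ[R]) hTu hy).1 (h.ge trivial) hyT
  obtain ⟨G, π, hG, F, p, τ, L⟩ := exists_isLim hsq hpure hgi hϖ' c hTu hne hne' P
    (fun J h => ⟨(hP J h).1, (hP J h).2.1, fun G π => (hP J h).2.2.2 T (Or.inl rfl) G π⟩) hJ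
  obtain ⟨G', π', hG', F', p', τ', L'⟩ := exists_isLim hsq hpure hgi hϖ' c (isUC_cpl T) (cpl_nonempty hne') hc P
    (fun J h => ⟨(hP J h).1, (hP J h).2.2.1, fun G π => (hP J h).2.2.2 _ (Or.inr rfl) G π⟩) hJ
  haveI := isIso_of_dec (k := κ[R]) ((hP J hJ).1.tf hsq hgi) hTu hne hne' (hP J hJ).2.1 hG hG'
  obtain ⟨e⟩ := (hP J hJ).1.2.1
  haveI := fibSimple_of_special.noetherian_of_proper' (c.Y ↘ Spec (CommRingCat.of c.Ω))
  exact L.not_isSimple hsq hϖ' c.max c.hpb c.hΩ c.sq (hP J hJ).1.coh (hP J hJ).1.flat L' hG.2.1 hG'.2.1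
    (hG.2.2.2.symm ▸ hne) (hG'.2.2.2.symm ▸ cpl_nonempty hne')
    (isSimple_congr (c.downIso e).symm (hIg c.Ω c.tg c.Y c.iYg _ c.sqg))

/-! ### Semistability -/

section polarised

variable {E : X.Modules} {r : ℕ} (hE : FlatMod.IsFinLocFreeOfRank r E) {d : ℤ}
  (hχ : Curv2.euler κ[R] Xs ((Scheme.Modules.pullback i).obj I) = d)
  (hEd : Curv2.deg κ[R] Xs ((Scheme.Modules.pullback i).obj E) r = -(r : ℤ) * d)

include hsq hgi hgen hE hpure in
theorem fibSemistable_of_special {J : X.Modules} (hJ : Good f i j I J)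
    (hb : BLB κ[R] ((Scheme.Modules.pullback i).obj E) r ((Scheme.Modules.pullback i).obj J) 0)
    (hIg : TFOne.FibSemistable (Xg ↘ Spec (CommRingCat.of (FractionRing R))) ((Scheme.Modules.pullback j).obj I)
      ((Scheme.Modules.pullback j).obj E) r) : TFOne.FibSemistable f J E r := by
  refine fibre_cases f hsq hgi hgen (fun Ω _ _ _ Y iY qY => TFOne.IsSemistable Y Ω qY
    ((Scheme.Modules.pullback iY).obj J) ((Scheme.Modules.pullback iY).obj E) r) ?_ ?_
  · intro Ω _ _ _ Y _ D
    haveI := D.noetherian'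
    haveI := D.proper'
    exact isSemistable_congr (compIso D.h i J) (compIso D.h i E) (D.semistable_pullback (dim_special hpure)
      (KRR7.isFinLocFreeOfRank_pullback i hE) (isTF1_geom f hsq hJ.1 Ω D)
      ⟨hJ.tf hsq hgi, fun Z hZ hZs _ G π hG => hb Z hZ (IsUC.of_subcurve hZs) G π hG⟩)
  · intro Ω _ _ tg Y iY qY hY
    obtain ⟨e⟩ := hJ.2.1
    haveI : IsProper qY := MorphismProperty.of_isPullback (hY.paste_horiz hgen) inferInstance
    haveI : AlgebraicGeometry.IsNoetherian Y := fibSimple_of_special.noetherian_of_proper' qY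
    exact isSemistable_congr ((Scheme.Modules.pullback iY).mapIso e.symm ≪≫ compIso iY j J) (compIso iY j E)
      (hIg Ω tg Y iY qY hY)

include hsq hgi hϖ hE hχ hEd hpure in
/-- On the geometric generic point every `β` is non-negative. -/
theorem beta_generic_nonneg {J : X.Modules} (hJ : Good f i j I J)
    (hss : TFOne.IsSemistable c.Y c.Ω (c.Y ↘ Spec (CommRingCat.of c.Ω))
      ((Scheme.Modules.pullback c.iY).obj ((Scheme.Modules.pullback c.g).obj J))
      ((Scheme.Modules.pullback c.iY).obj ((Scheme.Modules.pullback c.g).obj E)) r)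
    {Z : Set c.Y} (hZ : IsClosed Z) (hZu : IsUC Z) {G : c.Y.Modules}
    {π : (Scheme.Modules.pullback c.iY).obj ((Scheme.Modules.pullback c.g).obj J) ⟶ G}
    (hG : TFOne.IsQuotOn c.Y _ Z G π) :
    0 ≤ beta c.Ω ((Scheme.Modules.pullback c.iY).obj ((Scheme.Modules.pullback c.g).obj E)) r Z hZ G := by
  haveI := proper_special f hsq
  haveI := CurveCohLib.isNoetherian_of_proper (k := κ[R]) (X := Xs)
  haveI := noetherian_total f
  haveI := fibSimple_of_special.noetherian_of_proper' (c.Y ↘ Spec (CommRingCat.of c.Ω))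
  have hEY := KRR7.isFinLocFreeOfRank_pullback c.iY (KRR7.isFinLocFreeOfRank_pullback c.g hE)
  rcases Z.eq_empty_or_nonempty with h0 | h0
  · subst h0; exact (beta_empty hEY hZ hG).ge
  by_cases hu : Z = Set.univ
  · subst hu
    have ht := hJ.tf hsq hgi
    have hEs := KRR7.isFinLocFreeOfRank_pullback i hE
    have hq := quot_univ ht
    rw [beta_indep hss.1.2.2 hZ hG (quot_univ hss.1),
      beta_eq_chiT c.dim hEY hZ isUC_univ hss.1.2.2 (quot_univ hss.1),
      (isLim_self f i hsq ϖ hϖ c.f' c.g c.hpb hJ.coh hJ.flat).chiT_eq hsq hgi hϖ c.max c.hpb c.sq hE ht.1]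
    have h1 := beta_univ ht hEs (hJ.2.2.trans hχ) hEd hq
    rw [← beta_eq_chiT (dim_special hpure) hEs isClosed_univ isUC_univ ht.2.2 hq, h1]
  · exact hss.2 Z hZ (hZu.subcurve h0) hu G π hG

include hsq hpure hgi hgen hE hχ hEd in
/-- A stable family of decomposed extensions with `β < 0`, or `β ≤ 0` on a strict inequality, gives a quotient on
the geometric generic fibre. -/
theorem exists_generic_quot {T : Set Xs} (hTc : IsClosed T) (hTu : IsUC T) (hne : T.Nonempty) (hne' : T ≠ Set.univ)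
    (hϖ : IsLocalRing.maximalIdeal R = Ideal.span {ϖ}) (P : X.Modules → Prop) {J₀ : X.Modules} (h₀ : P J₀)
    (hP : ∀ J, P J → Good f i j I J ∧ Dec ((Scheme.Modules.pullback i).obj J) T ∧
      ∀ (G : Xs.Modules) (π : (Scheme.Modules.pullback i).obj J ⟶ G),
        TFOne.IsQuotOn Xs ((Scheme.Modules.pullback i).obj J) T G π → P (kernel (qMap i π))) :
    ∃ (G₀ : Xs.Modules) (π₀ : (Scheme.Modules.pullback i).obj J₀ ⟶ G₀) (F : c.X'.Modules)
      (p : (Scheme.Modules.pullback c.g).obj J₀ ⟶ F) (τ : F ⟶ _),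
      TFOne.IsQuotOn Xs ((Scheme.Modules.pullback i).obj J₀) T G₀ π₀ ∧ IsLim i ϖ c.f' c.g π₀ F p τ ∧
      TFOne.IsTF1 c.Y ((Scheme.Modules.pullback c.iY).obj ((Scheme.Modules.pullback c.g).obj J₀)) ∧
      ∃ (Z : Set c.Y) (hZ : IsClosed Z) (G : c.Y.Modules)
        (π : (Scheme.Modules.pullback c.iY).obj ((Scheme.Modules.pullback c.g).obj J₀) ⟶ G),
        IsUC Z ∧ TFOne.IsQuotOn c.Y _ Z G π ∧
        beta c.Ω ((Scheme.Modules.pullback c.iY).obj ((Scheme.Modules.pullback c.g).obj E)) r Z hZ G ≤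
          beta κ[R] ((Scheme.Modules.pullback i).obj E) r T hTc G₀ ∧
        ∀ y ∈ genericPoints c.Y, (y ∈ Z ↔ y ∈ CohB1.support ((Scheme.Modules.pullback c.iY).obj F)) := by
  haveI := proper_special f hsq
  haveI := CurveCohLib.isNoetherian_of_proper (k := κ[R]) (X := Xs)
  haveI := noetherian_total f
  obtain ⟨G₀, π₀, hG₀, F, p, τ, L⟩ := exists_isLim hsq hpure hgi hϖ c hTu hne hne' P hP h₀
  obtain ⟨hJ, -, -⟩ := hP J₀ h₀
  haveI := fibSimple_of_special.noetherian_of_proper' (c.Y ↘ Spec (CommRingCat.of c.Ω))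
  have htY : TFOne.IsTF1 c.Y ((Scheme.Modules.pullback c.iY).obj ((Scheme.Modules.pullback c.g).obj J₀)) := by
    have hsqX := c.sq.paste_horiz c.hpb
    exact isTF1_congr (compIso c.iY c.g J₀).symm (hJ.1.2.2 c.Ω _ c.Y _ _ hsqX)
  haveI := L.epi
  haveI : (Scheme.Modules.pullback c.iY).IsLeftAdjoint :=
    (Scheme.Modules.pullbackPushforwardAdjunction c.iY).isLeftAdjoint
  haveI : Epi ((Scheme.Modules.pullback c.iY).map p) := inferInstance
  have hEY := KRR7.isFinLocFreeOfRank_pullback c.iY (KRR7.isFinLocFreeOfRank_pullback c.g hE)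
  obtain ⟨Z, hZ, G, π, hZu, hG, hle, hgp⟩ := beta_le_chiT (k := c.Ω) c.dim hEY htY
    (ZClosLib.isCoh_pullback c.iY L.coh) ((Scheme.Modules.pullback c.iY).map p)
  refine ⟨G₀, π₀, F, p, τ, hG₀, L, htY, Z, hZ, G, π, hZu, hG, hle.trans_eq ?_, hgp⟩
  rw [L.chiT_eq hsq hgi hϖ c.max c.hpb c.sq hE hG₀.2.1, beta_eq_chiT (dim_special hpure)
    (KRR7.isFinLocFreeOfRank_pullback i hE) hTu.isClosed hTu (hJ.tf hsq hgi).2.2 hG₀]

include hsq hgi hgen in
theorem semistable_generic {J : X.Modules} (hJ : Good f i j I J)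
    (hIg : TFOne.FibSemistable (Xg ↘ Spec (CommRingCat.of (FractionRing R))) ((Scheme.Modules.pullback j).obj I)
      ((Scheme.Modules.pullback j).obj E) r) :
    TFOne.IsSemistable c.Y c.Ω (c.Y ↘ Spec (CommRingCat.of c.Ω))
      ((Scheme.Modules.pullback c.iY).obj ((Scheme.Modules.pullback c.g).obj J))
      ((Scheme.Modules.pullback c.iY).obj ((Scheme.Modules.pullback c.g).obj E)) r := by
  obtain ⟨e⟩ := hJ.2.1
  haveI := fibSimple_of_special.noetherian_of_proper' (c.Y ↘ Spec (CommRingCat.of c.Ω))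
  exact isSemistable_congr (c.downIso e).symm (c.down E).symm (hIg c.Ω c.tg c.Y c.iYg _ c.sqg)

include hsq hpure hgi hgen hE hχ hEd in
/-- An extension that is semistable on the closed fibre. -/
theorem exists_blb_zero (hr : 0 < r) (hI : TFOne.IsRelTF1 f I)
    (hIg : TFOne.FibSemistable (Xg ↘ Spec (CommRingCat.of (FractionRing R))) ((Scheme.Modules.pullback j).obj I)
      ((Scheme.Modules.pullback j).obj E) r) :
    ∃ J, Good f i j I J ∧
      BLB κ[R] ((Scheme.Modules.pullback i).obj E) r ((Scheme.Modules.pullback i).obj J) 0 := by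
  haveI := proper_special f hsq
  haveI := CurveCohLib.isNoetherian_of_proper (k := κ[R]) (X := Xs)
  have hEs := KRR7.isFinLocFreeOfRank_pullback i hE
  obtain ⟨m, ⟨J₀, hJ₀, hb₀⟩, hmax⟩ := Int.exists_greatest_of_bdd
    (P := fun m => ∃ J, Good f i j I J ∧
      BLB κ[R] ((Scheme.Modules.pullback i).obj E) r ((Scheme.Modules.pullback i).obj J) m)
    ⟨0, fun z ⟨J, hJ, hb⟩ => blb_le_zero hEs (hJ.tf hsq hgi) hb⟩
    (by
      obtain ⟨m, hm⟩ := exists_blb (k := κ[R]) (E := (Scheme.Modules.pullback i).obj E) (r := r)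
        ((good_self hI : Good f i j I I).tf hsq hgi)
      exact ⟨m, I, good_self hI, hm⟩)
  have hm0 : m ≤ 0 := blb_le_zero hEs (hJ₀.tf hsq hgi) hb₀
  rcases eq_or_lt_of_le hm0 with rfl | hlt
  · exact ⟨J₀, hJ₀, hb₀⟩
  exfalso
  obtain ⟨T, P, ⟨J, hJ⟩, hP⟩ := exists_stationary hsq hpure hgi hgen hr hEs m (fun _ => True)
    (fun _ _ _ _ => trivial) (fun J hJ hb => by
      have ht := hJ.tf hsq hgi
      obtain ⟨T, hT, hTu, hTb⟩ := exists_minimiser ht hb fun h => by
        have := hmax _ ⟨J, hJ, h⟩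
        omega
      exact exists_minAt (k := κ[R]) ht hT hTu trivial hTb) hJ₀ hb₀
  obtain ⟨hg, -, ⟨hTu, -, hTc, hTb, -⟩, -, -⟩ := hP J hJ
  have ht := hg.tf hsq hgi
  obtain ⟨G, π, hG⟩ := exists_quotOn ht hTu
  have hne : T.Nonempty := by
    by_contra h
    obtain rfl := Set.not_nonempty_iff_eq_empty.1 h
    have := (hTb G π hG).symm.trans (beta_empty hEs hTc hG)
    omega
  have hne' : T ≠ Set.univ := fun h => by
    subst h
    have := (hTb G π hG).symm.trans (beta_univ ht hEs (hg.2.2.trans hχ) hEd hG)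
    omega
  obtain ⟨ϖ, hϖ⟩ := IsDiscreteValuationRing.exists_irreducible R
  have hϖ' := (IsDiscreteValuationRing.irreducible_iff_uniformizer ϖ).1 hϖ
  obtain ⟨c⟩ := nonempty_completed f hsq hpure hgi hgen ϖ hϖ'
  obtain ⟨G₀, π₀, F, p, τ, hG₀, -, -, Z, hZ, G', π', hZu, hG', hle, -⟩ :=
    exists_generic_quot hsq hpure hgi hgen c hE hχ hEd hTc hTu hne hne' hϖ' P hJ
      fun J h => ⟨(hP J h).1, (hP J h).2.2.2.1, (hP J h).2.2.2.2⟩
  have := beta_generic_nonneg hsq hpure hgi hϖ' c hE hχ hEd hg (semistable_generic hsq hgi hgen c hg hIg) hZ hZu hG'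
  have := hTb G₀ π₀ hG₀
  omega

end polarised

end Groth.Agent.TFGeo7

end
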