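import Groth.Agent.TFGeo7.Main

/-! Extensions that are quasistable along a section. -/

set_option autoImplicit false
set_option maxHeartbeats 400000
set_option backward.isDefEq.respectTransparency false
set_option backward.isDefEq.respectTransparency.types false
set_option linter.unusedSectionVars false
set_option linter.style.haveILetI false

universe u

open CategoryTheory CategoryTheory.Limits AlgebraicGeometry TopologicalSpace Opposite

noncomputable section

namespace Groth.Agent.TFGeo7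

open Groth.Agent Groth.Agent.TFQuot7 CycK

local notation "κ[" R "]" => IsLocalRing.ResidueField R

variable {R : Type u} [CommRing R] [IsDomain R] [IsDiscreteValuationRing R] {X : Scheme.{u}}
  {f : X ⟶ Spec (CommRingCat.of R)} [Flat f] [IsProper f] {Xs : Scheme.{u}} [Xs.Over (Spec (CommRingCat.of κ[R]))]
  {i : Xs ⟶ X}
  (hsq : IsPullback i (Xs ↘ Spec (CommRingCat.of κ[R])) f (Spec.map (CommRingCat.ofHom (IsLocalRing.residue R))))
  [AlgebraicGeometry.IsReduced Xs]
  (hpure : ∀ C ∈ irreducibleComponents (Xs : Type u), topologicalKrullDim C = 1)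
  (hgi : ∀ (C : Set Xs) (hC : C ∈ irreducibleComponents (Xs : Type u)),
    GeometricallyIntegral (VecSt.subschι Xs C (isClosed_of_mem_irreducibleComponents C hC) ≫
      (Xs ↘ Spec (CommRingCat.of κ[R]))))

include hsq in
/-- A point of the closed fibre in the smooth locus lies on one component. -/
theorem eq_component_of_smooth (U : X.Opens) [Smooth (U.ι ≫ f)] {p : Xs} (hp : i p ∈ U) {C : Set Xs}
    (hC : C ∈ irreducibleComponents (Xs : Type u)) (hpC : p ∈ C) : C = irreducibleComponent p := by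
  refine H23.FinCondSch.unique_component ?_ hC (irreducibleComponent_mem_irreducibleComponents p) hpC
    mem_irreducibleComponent
  let V : Xs.Opens := i ⁻¹ᵁ U
  haveI : Smooth (V.ι ≫ (Xs ↘ Spec (CommRingCat.of κ[R]))) :=
    MorphismProperty.of_isPullback ((isPullback_morphismRestrict i U).paste_vert hsq) inferInstance
  haveI := GrpSchLib.isRegularLocalRing_stalk_of_smooth (V.ι ≫ (Xs ↘ Spec (CommRingCat.of κ[R]))) ⟨p, hp⟩
  haveI := RegLoc6.isDomain_of_isRegularLocalRing (V.toScheme.presheaf.stalk ⟨p, hp⟩)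
  haveI : IsDomain (Xs.presheaf.stalk p) :=
    (V.stalkIso ⟨p, hp⟩).symm.commRingCatIsoToRingEquiv.toMulEquiv.isDomain
  rw [nilradical_eq_zero]
  exact Ideal.isPrime_bot

variable {Xg : Scheme.{u}} [Xg.Over (Spec (CommRingCat.of (FractionRing R)))] {j : Xg ⟶ X}
  (hgen : IsPullback j (Xg ↘ Spec (CommRingCat.of (FractionRing R))) f
    (Spec.map (CommRingCat.ofHom (algebraMap R (FractionRing R)))))
  {I E : X.Modules} {r : ℕ} (hE : FlatMod.IsFinLocFreeOfRank r E) {d : ℤ}
  (hχ : Curv2.euler κ[R] Xs ((Scheme.Modules.pullback i).obj I) = d)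
  (hEd : Curv2.deg κ[R] Xs ((Scheme.Modules.pullback i).obj E) r = -(r : ℤ) * d)
  (σ : Spec (CommRingCat.of R) ⟶ X) (hσ : σ ≫ f = 𝟙 _)

/-- The section on the closed fibre. -/
def secSpecial : Spec (CommRingCat.of κ[R]) ⟶ Xs :=
  hsq.lift (Spec.map (CommRingCat.ofHom (IsLocalRing.residue R)) ≫ σ) (𝟙 _)
    (by rw [Category.assoc, hσ, Category.comp_id, Category.id_comp])

/-- The point where the section meets the closed fibre. -/
def ptSpecial : Xs := secSpecial hsq σ hσ (IsLocalRing.closedPoint κ[R])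

theorem i_ptSpecial : i (ptSpecial hsq σ hσ) = σ (IsLocalRing.closedPoint R) := by
  have h : secSpecial hsq σ hσ ≫ i = Spec.map (CommRingCat.ofHom (IsLocalRing.residue R)) ≫ σ :=
    hsq.lift_fst _ _ _
  have h' := congr(($h).base (IsLocalRing.closedPoint κ[R]))
  exact h'.trans (congrArg (fun t => σ t) (IsLocalRing.comap_closedPoint (IsLocalRing.residue R)))

variable (σg : Spec (CommRingCat.of (FractionRing R)) ⟶ Xg)
  (hσg : σg ≫ (Xg ↘ Spec (CommRingCat.of (FractionRing R))) = 𝟙 _)
  (hσgj : σg ≫ j = Spec.map (CommRingCat.ofHom (algebraMap R (FractionRing R))) ≫ σ)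

include hsq hpure hgi hgen hE hσgj in
theorem fibQuasistable_of_special {J : X.Modules} (hJ : Good f i j I J)
    (hb : BLB κ[R] ((Scheme.Modules.pullback i).obj E) r ((Scheme.Modules.pullback i).obj J) 0)
    (hstrict : ∀ (T : Set Xs) (hT : IsClosed T), IsUC T → T ≠ Set.univ → ptSpecial hsq σ hσ ∈ T →
      ∀ (G : Xs.Modules) (π : (Scheme.Modules.pullback i).obj J ⟶ G), TFOne.IsQuotOn Xs _ T G π →
        0 < beta κ[R] ((Scheme.Modules.pullback i).obj E) r T hT G)
    (hIg : TFOne.FibQuasistableAlong (Xg ↘ Spec (CommRingCat.of (FractionRing R))) ((Scheme.Modules.pullback j).obj I)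
      ((Scheme.Modules.pullback j).obj E) σg hσg r) : TFOne.FibQuasistableAlong f J E σ hσ r := by
  refine fibre_cases f hsq hgi hgen (fun Ω _ _ t Y iY qY => ∀ (y : Spec (CommRingCat.of Ω) ⟶ Y),
    y ≫ iY = t ≫ σ → y ≫ qY = 𝟙 _ → TFOne.IsQuasistableAtPt Y Ω qY ((Scheme.Modules.pullback iY).obj J)
      ((Scheme.Modules.pullback iY).obj E) r (y.base (IsLocalRing.closedPoint Ω))) ?_ ?_
  · intro Ω _ _ _ Y _ D y hy hy'
    haveI := D.noetherian'
    haveI := D.proper'
    have hyD : y ≫ D.h = Spec.map (CommRingCat.ofHom (algebraMap κ[R] Ω)) ≫ secSpecial hsq σ hσ := by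
      apply hsq.hom_ext
      · rw [Category.assoc, Category.assoc, secSpecial, hsq.lift_fst, hy, Category.assoc]
      · rw [Category.assoc, Category.assoc, secSpecial, hsq.lift_snd, Category.comp_id, D.sq.w, reassoc_of% hy']
    have hpt : D.h (y.base (IsLocalRing.closedPoint Ω)) = ptSpecial hsq σ hσ := by
      have h := congr(($hyD).base (IsLocalRing.closedPoint Ω))
      exact h.trans (congrArg (fun t => secSpecial hsq σ hσ t) (Subsingleton.elim _ _))
    refine isQuasistableAtPt_congr (compIso D.h i J) (compIso D.h i E) (D.quasistable_pullback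
      (dim_special hpure) (KRR7.isFinLocFreeOfRank_pullback i hE) (isTF1_geom f hsq hJ.1 Ω D)
      ⟨⟨hJ.tf hsq hgi, fun Z hZ hZs _ G π hG => hb Z hZ (IsUC.of_subcurve hZs) G π hG⟩,
        fun Z hZ hZs hne hp G π hG => hstrict Z hZ (IsUC.of_subcurve hZs) hne (hpt ▸ hp) G π hG⟩)
  · intro Ω _ _ tg Y iY qY hY y hy hy'
    obtain ⟨e⟩ := hJ.2.1
    haveI : IsProper qY := MorphismProperty.of_isPullback (hY.paste_horiz hgen) inferInstance
    haveI : AlgebraicGeometry.IsNoetherian Y := fibSimple_of_special.noetherian_of_proper' qY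
    have hy2 : y ≫ iY = tg ≫ σg := by
      apply hgen.hom_ext
      · rw [Category.assoc, Category.assoc, hσgj, hy, Category.assoc]
      · rw [Category.assoc, Category.assoc, hσg, Category.comp_id, hY.w, reassoc_of% hy']
    exact isQuasistableAtPt_congr ((Scheme.Modules.pullback iY).mapIso e.symm ≪≫ compIso iY j J) (compIso iY j E)
      (hIg Ω tg Y iY qY hY y hy2 hy')

include hsq hpure hgi hgen hE hχ hEd hσgj in
/-- An extension quasistable at the section on the closed fibre. -/
theorem exists_quasistable (hr : 0 < r) (hI : TFOne.IsRelTF1 f I) (U : X.Opens)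
    (hσU : Set.range σ.base ⊆ (U : Set X)) [Smooth (U.ι ≫ f)]
    (hIg : TFOne.FibQuasistableAlong (Xg ↘ Spec (CommRingCat.of (FractionRing R))) ((Scheme.Modules.pullback j).obj I)
      ((Scheme.Modules.pullback j).obj E) σg hσg r) :
    ∃ J, TFOne.IsRelTF1 f J ∧ Nonempty ((Scheme.Modules.pullback j).obj J ≅ (Scheme.Modules.pullback j).obj I) ∧
      TFOne.FibQuasistableAlong f J E σ hσ r := by
  haveI := proper_special f hsq
  haveI := CurveCohLib.isNoetherian_of_proper (k := κ[R]) (X := Xs)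
  haveI := noetherian_total f
  have hIs : TFOne.FibSemistable (Xg ↘ Spec (CommRingCat.of (FractionRing R))) ((Scheme.Modules.pullback j).obj I)
      ((Scheme.Modules.pullback j).obj E) r := fun Ω _ _ tg Y iY qY hY => by
    let y : Spec (CommRingCat.of Ω) ⟶ Y := hY.lift (tg ≫ σg) (𝟙 _)
      (by rw [Category.assoc, hσg, Category.comp_id, Category.id_comp])
    exact (hIg Ω tg Y iY qY hY y (hY.lift_fst _ _ _) (hY.lift_snd _ _ _)).1
  obtain ⟨J₀, hJ₀, hb₀⟩ := exists_blb_zero hsq hpure hgi hgen hE hχ hEd hr hI hIs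
  have hEs := KRR7.isFinLocFreeOfRank_pullback i hE
  let p := ptSpecial hsq σ hσ
  have hpU : i p ∈ U := (i_ptSpecial hsq σ hσ).symm ▸ hσU ⟨_, rfl⟩
  let W := irreducibleComponent p
  obtain ⟨T, P, ⟨J, hJ⟩, hP⟩ := exists_stationary hsq hpure hgi hgen hr hEs 0 (fun T => W ⊆ T)
    (fun Y Z h1 h2 => Set.subset_sUnion_of_mem
      ⟨irreducibleComponent_mem_irreducibleComponents p, Set.subset_inter h1 h2⟩)
    (fun J hJ hb => exists_minAt (k := κ[R]) (hJ.tf hsq hgi) isClosed_univ isUC_univ (Set.subset_univ _)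
      fun G π hG => beta_univ (hJ.tf hsq hgi) hEs (hJ.2.2.trans hχ) hEd hG) hJ₀ hb₀
  obtain ⟨hg, hb, ⟨hTu, hWT, hTc, hTb, hTmin⟩, -, -⟩ := hP J hJ
  by_cases hT : T = Set.univ
  · refine ⟨J, hg.1, hg.2.1, fibQuasistable_of_special hsq hpure hgi hgen hE σ hσ σg hσg hσgj hg hb ?_ hIg⟩
    intro Z hZ hZu hne hpZ G π hG
    refine lt_of_le_of_ne (hb Z hZ hZu G π hG) fun h0 => hne ?_
    obtain ⟨S, hS, rfl⟩ := hZu
    obtain ⟨C, hC, hpC⟩ := hpZ
    refine Set.eq_univ_of_univ_subset (hT ▸ hTmin _ hZ ⟨S, hS, rfl⟩ ?_ (hT ▸ Set.subset_univ _) G π hG h0.symm)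
    show W ⊆ _
    rw [show W = C from (eq_component_of_smooth hsq U hpU (hS hC) hpC).symm]
    exact Set.subset_sUnion_of_mem hC
  exfalso
  obtain ⟨ϖ, hϖ⟩ := IsDiscreteValuationRing.exists_irreducible R
  have hϖ' := (IsDiscreteValuationRing.irreducible_iff_uniformizer ϖ).1 hϖ
  haveI := isClosedImmersion_i f i hsq ϖ hϖ'
  obtain ⟨c⟩ := nonempty_completed f hsq hpure hgi hgen ϖ hϖ'
  have hTne : T.Nonempty := ⟨p, hWT mem_irreducibleComponent⟩
  obtain ⟨G₀, π₀, F, q, τ, hG₀, L, htY, Z, hZ, G, π, hZu, hG, hle, hgp⟩ :=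
    exists_generic_quot hsq hpure hgi hgen c hE hχ hEd hTc hTu hTne hT hϖ' P hJ
      fun J h => ⟨(hP J h).1, (hP J h).2.2.2.1, (hP J h).2.2.2.2⟩
  rw [hTb G₀ π₀ hG₀] at hle
  have htf := hg.tf hsq hgi
  haveI := proper_bc f c.f' c.g c.hpb
  haveI := noetherian_total c.f'
  haveI := fibSimple_of_special.noetherian_of_proper' (c.Y ↘ Spec (CommRingCat.of c.Ω))
  let PG := Scheme.Modules.pullback c.g
  let PY := Scheme.Modules.pullback c.iY
  haveI := flat_generic c.f' c.hΩ c.sq
  haveI := RGLib.Lim8.preservesFiniteLimits_pullback c.iY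
  haveI := (Scheme.Modules.pullbackPushforwardAdjunction c.iY).left_adjoint_additive
  have L₁ := isLim_self f i hsq ϖ hϖ' c.f' c.g c.hpb hg.coh hg.flat
  haveI := L₁.short.mono_f
  haveI := L.epi
  haveI : PY.IsLeftAdjoint := (Scheme.Modules.pullbackPushforwardAdjunction c.iY).isLeftAdjoint
  haveI : Epi (PY.map q) := inferInstance
  have hK : Coh.IsCoh (kernel q) := QCoh.isCoh_kernel L₁.coh L.coh q
  have hex : ((ShortComplex.mk (kernel.ι q) q (kernel.condition q)).map PY).Exact :=
    (ShortComplex.exact_kernel q).map_of_mono_of_preservesKernel PY inferInstance inferInstance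
  -- the point of the generic fibre
  let σ' : Spec (CommRingCat.of c.R') ⟶ c.X' := c.hpb.lift
    (Spec.map (CommRingCat.ofHom (algebraMap R c.R')) ≫ σ) (𝟙 _)
    (by rw [Category.assoc, hσ, Category.comp_id, Category.id_comp])
  have hσ'g : σ' ≫ c.g = Spec.map (CommRingCat.ofHom (algebraMap R c.R')) ≫ σ := c.hpb.lift_fst _ _ _
  have hσ'f : σ' ≫ c.f' = 𝟙 _ := c.hpb.lift_snd _ _ _
  let y : Spec (CommRingCat.of c.Ω) ⟶ c.Y := c.sq.lift (Spec.map (CommRingCat.ofHom (algebraMap c.R' c.Ω)) ≫ σ') (𝟙 _)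
    (by rw [Category.assoc, hσ'f, Category.comp_id, Category.id_comp])
  have hy1 : y ≫ c.iY = Spec.map (CommRingCat.ofHom (algebraMap c.R' c.Ω)) ≫ σ' := c.sq.lift_fst _ _ _
  have hy2 : y ≫ (c.Y ↘ Spec (CommRingCat.of c.Ω)) = 𝟙 _ := c.sq.lift_snd _ _ _
  have hy3 : y ≫ c.iYg = c.tg ≫ σg := by
    apply hgen.hom_ext
    · rw [Category.assoc, Category.assoc, hσgj, ← c.comm, reassoc_of% hy1, hσ'g, reassoc_of% c.ht]
    · rw [Category.assoc, Category.assoc, hσg, Category.comp_id, c.sqg.w, reassoc_of% hy2]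
  obtain ⟨e⟩ := hg.2.1
  obtain ⟨hss, hstrict⟩ := isQuasistableAtPt_congr (c.downIso e).symm (c.down E).symm
    (hIg c.Ω c.tg c.Y c.iYg _ c.sqg y hy3 hy2)
  let yp : c.Y := y.base (IsLocalRing.closedPoint c.Ω)
  -- the point lies on `Z`
  have hyZ : yp ∈ Z := by
    obtain ⟨η, hη, hcl, -⟩ := exists_generic_of_component (irreducibleComponent_mem_irreducibleComponents yp)
    have hηy : η ⤳ yp := specializes_iff_mem_closure.2 (hcl.symm ▸ mem_irreducibleComponent)
    refine closure_subset_of_generic hZ ((hgp η hη).2 fun hsub => ?_) (hcl.symm ▸ mem_irreducibleComponent)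
    let x₀ : c.X' := σ' (IsLocalRing.closedPoint c.R')
    have hx₀ : algebraMap R c.R' ϖ ∈ (c.f' x₀).asIdeal := by
      rw [show c.f' x₀ = IsLocalRing.closedPoint c.R' from congr(($hσ'f).base (IsLocalRing.closedPoint c.R'))]
      show algebraMap R c.R' ϖ ∈ IsLocalRing.maximalIdeal c.R'
      rw [c.max]; exact Ideal.mem_span_singleton_self _
    have hgx₀ : c.g x₀ = i p := by
      refine (congr(($hσ'g).base (IsLocalRing.closedPoint c.R'))).trans (Eq.trans ?_ (i_ptSpecial hsq σ hσ).symm)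
      refine congrArg (fun t => σ t) (PrimeSpectrum.ext ?_)
      show Ideal.comap (algebraMap R c.R') (IsLocalRing.maximalIdeal c.R') = IsLocalRing.maximalIdeal R
      refine ((IsLocalRing.maximalIdeal.isMaximal R).eq_of_le (Ideal.IsPrime.ne_top inferInstance) ?_).symm
      rw [hϖ', c.max, Ideal.span_le, Set.singleton_subset_iff]
      exact Ideal.mem_span_singleton_self _
    have hKπ : Coh.IsCoh (kernel π₀) := QCoh.isCoh_kernel htf.1 hG₀.2.1 π₀
    have hsub0 : Subsingleton ((kernel q).presheaf.stalk x₀) := by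
      refine L.kernel_stalk hsq hϖ' c.max c.hpb hg.coh hg.flat hG₀.2.1 hx₀ ?_
      rw [hgx₀, mem_support_push_iff (QCoh.isCoh_pushforward_finite i hKπ) p]
      intro hmem
      have hsupp := ((det_of_isTF1 κ[R] htf).of_mono (kernel.ι π₀)).support_subset (isUC_cpl T).isClosed
        fun z hz hzc => subsingleton_of_forall_eq 0 fun v => by
          refine (injective_iff_map_eq_zero _).1 (sl_injective (kernel.ι π₀) z) _ ?_
          refine (injective_iff_map_eq_zero _).1 (quot_injective htf.2.2 hG₀ hz ?_) _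
            (by rw [sl_sl_comp (kernel.condition π₀), sl_zero]; rfl)
          by_contra hzT
          exact hzc ((mem_cpl (k := κ[R]) hTu (mem_genericPoints_iff.2 hz)).2 hzT)
      obtain ⟨C, ⟨hC, hCT⟩, hpC⟩ := hsupp hmem
      exact hCT ((eq_component_of_smooth hsq U hpU hC hpC).le.trans hWT)
    have hspec : c.iY η ⤳ x₀ := by
      refine (hηy.map c.iY.continuous).trans ?_
      rw [show c.iY yp = σ' ((Spec.map (CommRingCat.ofHom (algebraMap c.R' c.Ω))) (IsLocalRing.closedPoint c.Ω)) from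
        congr(($hy1).base (IsLocalRing.closedPoint c.Ω))]
      exact (IsLocalRing.specializes_closedPoint _).map σ'.continuous
    have hsubη : Subsingleton ((PY.obj (kernel q)).presheaf.stalk η) := by
      refine not_not.1 fun h => ?_
      exact QCoh.stableUnderSpecialization_support hK.1 hspec ((QCoh.support_pullback c.iY hK.1 hK.2).le h) hsub0
    have e1 := (KFlatLib.exact_iff_stalk _).1 hex η
    rw [ShortComplex.ShortExact.moduleCat_exact_iff_function_exact] at e1
    obtain ⟨v, hv⟩ := exists_ne_zero_of_rkOne htY.2.2 hη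
    obtain ⟨w, hw⟩ := (e1 v).1 (hsub.elim _ _)
    rw [@Subsingleton.elim _ hsubη w 0] at hw
    exact hv (hw.symm.trans (map_zero _))
  -- `Z` is proper
  have hZne : Z ≠ Set.univ := fun hZuniv => by
    have hz : IsZero (PY.obj (kernel q)) := by
      refine IsZero.of_iso ?_ (PreservesKernel.iso PY q)
      refine ((det_of_isTF1 c.Ω htY).of_mono (kernel.ι (PY.map q))).isZero fun η hη => ?_
      refine subsingleton_of_forall_eq 0 fun v => ?_
      refine (injective_iff_map_eq_zero _).1 (sl_injective (kernel.ι (PY.map q)) η) _ ?_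
      obtain ⟨l⟩ := htY.2.2 η (mem_genericPoints_iff.2 hη)
      refine (injective_iff_map_eq_zero _).1 (injective_of_rankOne hη l (sl (PY.map q) η) ?_) _
        (by rw [sl_sl_comp (kernel.condition (PY.map q)), sl_zero]; rfl)
      by_contra hc
      push Not at hc
      refine (hgp η (mem_genericPoints_iff.2 hη)).1 (hZuniv ▸ trivial) (subsingleton_of_forall_eq 0 fun w => ?_)
      obtain ⟨v, rfl⟩ := sl_surjective (PY.map q) η w
      exact hc v
    haveI : Mono (tMap c.f' (kernel q) (algebraMap R c.R' ϖ)) := Preadditive.mono_of_cancel_zero _ fun a ha => by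
      rw [← cancel_mono (kernel.ι q), ← cancel_mono (tMap c.f' _ (algebraMap R c.R' ϖ)), zero_comp, zero_comp,
        Category.assoc, tMap_comm, reassoc_of% ha, zero_comp]
    haveI : Mono q := Preadditive.mono_of_isZero_kernel q
      (by_contra fun h => TFGeo7.not_isZero_generic c.f' _ c.hΩ c.sq c.max hK h hz)
    haveI := L.mono_of_mono hsq hϖ' c.max c.hpb hg.coh hg.flat hG₀.2.1
    obtain ⟨η, hη, hηT⟩ : ∃ η ∈ genericPoints Xs, η ∉ T := by
      by_contra hc
      push Not at hc
      exact hT (Set.eq_univ_of_univ_subset (isUC_univ.subset_of_generic hTc fun η hη _ => hc η hη))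
    obtain ⟨v, hv⟩ := exists_ne_zero_of_rkOne htf.2.2 hη
    exact hv ((injective_iff_map_eq_zero _).1 (sl_injective π₀ η) v ((quot_subsingleton hG₀ hηT).elim _ _))
  have hlt := hstrict Z hZ (hZu.subcurve ⟨yp, hyZ⟩) hZne hyZ G π hG
  exact absurd hle (not_le.2 hlt)

end Groth.Agent.TFGeo7

end
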