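import Groth.Agent.TFQuot7.Simple
import Groth.Agent.TFQuot7.Rows

/-! Decompositions of rank-one modules and their behaviour under modifications. -/

set_option autoImplicit false
set_option maxHeartbeats 400000
set_option backward.isDefEq.respectTransparency false
set_option backward.isDefEq.respectTransparency.types false
set_option linter.unusedSectionVars false
set_option linter.style.haveILetI false

universe u

open CategoryTheory CategoryTheory.Limits AlgebraicGeometry TopologicalSpace Opposite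

noncomputable section

namespace Groth.Agent.TFGeo7

open Groth.Agent Groth.Agent.TFQuot7 CycK

variable {X : Scheme.{u}}

/-- `M` decomposes at `Z`: an endomorphism is the identity on the generic points in `Z` and zero on the others. -/
def Dec (M : X.Modules) (Z : Set X) : Prop :=
  ∃ e : M ⟶ M, ∀ y, IsField (X.presheaf.stalk y) →
    (y ∈ Z → ∀ v, sl e y v = v) ∧ (y ∉ Z → ∀ v, sl e y v = 0)

theorem dec_compl {M : X.Modules} {Z Z' : Set X}
    (h : ∀ y, IsField (X.presheaf.stalk y) → (y ∈ Z' ↔ y ∉ Z)) (hd : Dec M Z) : Dec M Z' := by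
  obtain ⟨e, he⟩ := hd
  refine ⟨𝟙 M - e, fun y hy => ⟨fun hy' v => ?_, fun hy' v => ?_⟩⟩
  · rw [sl_sub, sl_id, (he y hy).2 ((h y hy).1 hy') v, sub_zero]; rfl
  · rw [sl_sub, sl_id, (he y hy).1 (by by_contra hn; exact hy' ((h y hy).2 hn)) v]; exact sub_self v

theorem dec_of_iso [AlgebraicGeometry.IsReduced X] {M G G' : X.Modules} {T T' : Set X} {π : M ⟶ G} {π' : M ⟶ G'}
    (hM : TFOne.IsRkOne X M) (hG : TFOne.IsQuotOn X M T G π) (hG' : TFOne.IsQuotOn X M T' G' π')
    (hiso : IsIso (biprod.lift π π')) : Dec M T := by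
  haveI := hiso
  have hπ : (π ≫ biprod.inl ≫ inv (biprod.lift π π')) ≫ π = π := by
    have : inv (biprod.lift π π') ≫ π = biprod.fst := by rw [IsIso.inv_comp_eq, biprod.lift_fst]
    simp only [Category.assoc, this, biprod.inl_fst, Category.comp_id]
  refine ⟨π ≫ biprod.inl ≫ inv (biprod.lift π π'), fun y hy => ⟨fun hyT v => ?_, fun hyT v => ?_⟩⟩
  · refine quot_injective hM hG hy hyT ?_
    rw [sl_sl_comp hπ]
  · rw [sl_comp_apply, (quot_subsingleton hG hyT).elim (sl π y v) 0, map_zero]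

/-- A decomposition of a modification along `T` comes from one of the module, if that decomposes at `T`. -/
theorem dec_of_modif [AlgebraicGeometry.IsNoetherian X] [AlgebraicGeometry.IsReduced X] {M N GY : X.Modules}
    {T Z : Set X} {π : M ⟶ GY} {δ : GY ⟶ N} {γ : N ⟶ M} (h : IsModif π δ γ) (hM : TFOne.IsTF1 X M)
    (hGY : TFOne.IsQuotOn X M T GY π) (hT : Dec M T) (hN : Dec N Z) : Dec M Z := by
  obtain ⟨eT, heT⟩ := hT
  obtain ⟨e, he⟩ := hN
  have hd := det_of_tf hM.1.1 hM.2.1
  haveI := hGY.1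
  haveI := h.mono
  obtain ⟨sT, hsT⟩ := exists_desc hM.2.2 hGY hd eT fun y hy hyT v => (heT y hy).2 hyT v
  have hkl : (𝟙 M - eT) ≫ π = 0 := (quot_det hGY).hom_eq_zero _ fun y hy v => by
    rw [sl_comp_apply, sl_sub, sl_id]
    by_cases hyT : y ∈ T
    · rw [(heT y hy).1 hyT v]; simp
    · exact (quot_subsingleton hGY hyT).elim _ _
  have hγT : ∀ y, IsField (X.presheaf.stalk y) → y ∈ T → ∀ n, sl γ y n = 0 := fun y hy hyT n =>
    (injective_iff_map_eq_zero _).1 (quot_injective hM.2.2 hGY hy hyT) _ (by rw [sl_sl_comp h.w', sl_zero]; rfl)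
  have ha : (δ ≫ e) ≫ γ = 0 := hd.hom_eq_zero _ fun y hy v => by
    rw [sl_comp_apply]
    by_cases hyT : y ∈ T
    · exact hγT y hy hyT _
    · rw [(quot_subsingleton hGY hyT).elim v 0, map_zero, map_zero]
  haveI : Mono (ShortComplex.mk δ γ h.w).f := h.mono
  let a : GY ⟶ GY := h.exact₁.lift (δ ≫ e) ha
  have ha' : a ≫ δ = δ ≫ e := h.exact₁.lift_f _ _
  have hb : δ ≫ e ≫ γ = 0 := by rw [← Category.assoc]; exact ha
  haveI : Epi (ShortComplex.mk δ h.c h.δ_c).g := h.epi_c
  let b : kernel π ⟶ M := h.shortExact.exact.desc (e ≫ γ) hb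
  have hb' : h.c ≫ b = e ≫ γ := h.shortExact.exact.g_desc _ _
  refine ⟨π ≫ a ≫ sT + kernel.lift π (𝟙 M - eT) hkl ≫ b, fun y hy => ?_⟩
  have hk1 : y ∈ T → ∀ v, sl (kernel.lift π (𝟙 M - eT) hkl) y v = 0 := fun hyT v => by
    refine (injective_iff_map_eq_zero _).1 (sl_injective (kernel.ι π) y) _ ?_
    rw [sl_sl_comp (kernel.lift_ι _ _ _), sl_sub, sl_id, (heT y hy).1 hyT v]
    exact sub_self v
  have key : ∀ v, (y ∈ Z → sl (π ≫ a ≫ sT + kernel.lift π (𝟙 M - eT) hkl ≫ b) y v = v) ∧
      (y ∉ Z → sl (π ≫ a ≫ sT + kernel.lift π (𝟙 M - eT) hkl ≫ b) y v = 0) := fun v => by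
    by_cases hyT : y ∈ T
    · rw [sl_add, sl_comp_apply (kernel.lift π (𝟙 M - eT) hkl), hk1 hyT v, map_zero, add_zero, sl_comp_apply,
        sl_comp_apply]
      have hδa : sl δ y (sl a y (sl π y v)) = sl e y (sl δ y (sl π y v)) := by
        rw [sl_sl_comp ha', sl_comp_apply]
      have hs : sl sT y (sl π y v) = v := by rw [sl_sl_comp hsT, (heT y hy).1 hyT v]
      refine ⟨fun hz => ?_, fun hz => ?_⟩
      · rw [(he y hy).1 hz] at hδa
        rw [sl_injective δ y hδa, hs]
      · rw [(he y hy).2 hz, ← map_zero (sl δ y)] at hδa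
        rw [sl_injective δ y hδa, map_zero]
    · have h1 : sl (π ≫ a ≫ sT) y v = 0 := by
        rw [sl_comp_apply, (quot_subsingleton hGY hyT).elim (sl π y v) 0, map_zero]
      rw [sl_add, h1, zero_add, sl_comp_apply]
      obtain ⟨n, hn⟩ : ∃ n, sl h.c y n = sl (kernel.lift π (𝟙 M - eT) hkl) y v := by
        haveI := h.epi_c
        exact sl_surjective h.c y _
      have hv : sl γ y n = v := by
        rw [← sl_sl_comp h.c_ι, hn, sl_sl_comp (kernel.lift_ι _ _ _), sl_sub, sl_id, (heT y hy).2 hyT v, sub_zero]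
        rfl
      rw [← hn, sl_sl_comp hb', sl_comp_apply]
      exact ⟨fun hz => by rw [(he y hy).1 hz, hv], fun hz => by rw [(he y hy).2 hz, map_zero]⟩
  exact ⟨fun hz v => (key v).1 hz, fun hz v => (key v).2 hz⟩

variable (k : Type u) [Field k] [X.Over (Spec (CommRingCat.of k))] [IsProper (X ↘ Spec (CommRingCat.of k))]

include k in
/-- The decomposition given by an endomorphism. -/
theorem exists_decomp_of_dec [AlgebraicGeometry.IsReduced X] {M : X.Modules} (hM : TFOne.IsTF1 X M) {T T' : Set X}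
    (hT : VecSt.IsSubcurve X T) (hT' : VecSt.IsSubcurve X T')
    (hn : ∀ y ∈ genericPoints X, (y ∈ T' ↔ y ∉ T)) (hd : Dec M T) :
    ∃ (G G' : X.Modules) (π : M ⟶ G) (π' : M ⟶ G'), TFOne.IsQuotOn X M T G π ∧
      TFOne.IsQuotOn X M T' G' π' ∧ IsIso (biprod.lift π π') := by
  obtain ⟨e, he⟩ := hd
  have hr := hM.2.2
  have hdet := det_of_isTF1 k hM
  have hee : e ≫ e = e := hdet.hom_ext fun y hy v => by
    rw [sl_comp_apply]
    by_cases hz : y ∈ T
    · rw [(he y hy).1 hz, (he y hy).1 hz]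
    · rw [(he y hy).2 hz (sl e y v), (he y hy).2 hz v]
  have hev1 : ∀ y (hy : y ∈ genericPoints X), y ∈ T → ev hr hy e = 1 := fun y hy hz =>
    ev_eq hr hy e fun v => by rw [(he y (mem_genericPoints_iff.1 hy)).1 hz, one_smul]
  have hev0 : ∀ y (hy : y ∈ genericPoints X), y ∉ T → ev hr hy e = 0 := fun y hy hz =>
    ev_eq hr hy e fun v => by rw [(he y (mem_genericPoints_iff.1 hy)).2 hz, zero_smul]
  have hev2 : ∀ y (hy : y ∈ genericPoints X), ev hr hy (𝟙 M - e) = 1 - ev hr hy e := fun y hy =>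
    ev_eq hr hy _ fun v => by rw [sl_sub, sl_id, ev_spec hr hy e, sub_smul, one_smul]; rfl
  have hef : e ≫ (𝟙 M - e) = 0 := by rw [Preadditive.comp_sub, Category.comp_id, hee, sub_self]
  have hfe : (𝟙 M - e) ≫ e = 0 := by rw [Preadditive.sub_comp, Category.id_comp, hee, sub_self]
  have hid1 : kernel.ι (𝟙 M - e) ≫ e = kernel.ι (𝟙 M - e) := by
    have h := kernel.condition (𝟙 M - e)
    rw [Preadditive.comp_sub, Category.comp_id, sub_eq_zero] at h
    exact h.symm
  have hid2 : kernel.ι e ≫ (𝟙 M - e) = kernel.ι e := by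
    rw [Preadditive.comp_sub, Category.comp_id, kernel.condition, sub_zero]
  refine ⟨_, _, _, _, isQuotOn_kernel k hM e (𝟙 M - e) hef hid1 hT hev1 hev0,
    isQuotOn_kernel k hM (𝟙 M - e) e hfe hid2 hT' (fun y hy h => by rw [hev2, hev0 y hy ((hn y hy).1 h), sub_zero])
      (fun y hy h => by rw [hev2, hev1 y hy (by by_contra hc; exact h ((hn y hy).2 hc)), sub_self]),
    ⟨biprod.desc (kernel.ι _) (kernel.ι _), ?_, ?_⟩⟩
  · rw [biprod.lift_desc, kernel.lift_ι, kernel.lift_ι, add_sub_cancel]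
  · apply biprod.hom_ext' <;> apply biprod.hom_ext
    · simp only [Category.assoc, biprod.inl_desc_assoc, biprod.lift_fst, biprod.inl_fst, Category.comp_id]
      rw [← cancel_mono (kernel.ι (𝟙 M - e)), Category.assoc, kernel.lift_ι, hid1, Category.id_comp]
    · simp only [Category.assoc, biprod.inl_desc_assoc, biprod.lift_snd, biprod.inl_snd, Category.comp_id]
      rw [← cancel_mono (kernel.ι e), Category.assoc, kernel.lift_ι, kernel.condition, zero_comp]
    · simp only [Category.assoc, biprod.inr_desc_assoc, biprod.lift_fst, biprod.inr_fst, Category.comp_id]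
      rw [← cancel_mono (kernel.ι (𝟙 M - e)), Category.assoc, kernel.lift_ι, kernel.condition, zero_comp]
    · simp only [Category.assoc, biprod.inr_desc_assoc, biprod.lift_snd, biprod.inr_snd, Category.comp_id]
      rw [← cancel_mono (kernel.ι e), Category.assoc, kernel.lift_ι, hid2, Category.id_comp]

end Groth.Agent.TFGeo7

end
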