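import Groth.Agent.TFQuot7.Quot
import Groth.Agent.QCoh.PullStalk
import Groth.Agent.QCoh.FlatOver

/-! Detected sections pull back along flat affine morphisms onto reduced schemes. -/

set_option autoImplicit false
set_option maxHeartbeats 400000
set_option backward.isDefEq.respectTransparency false
set_option backward.isDefEq.respectTransparency.types false
set_option linter.unusedSectionVars false
set_option linter.style.haveILetI false

universe u

open CategoryTheory CategoryTheory.Limits AlgebraicGeometry TopologicalSpace Opposite TensorProduct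

noncomputable section

namespace Groth.Agent.TFGeo7

open Groth.Agent Groth.Agent.TFQuot7 CycK

variable {X Y : Scheme.{u}} [AlgebraicGeometry.IsNoetherian X] [AlgebraicGeometry.IsReduced X]
  [AlgebraicGeometry.IsNoetherian Y] [AlgebraicGeometry.IsReduced Y]

/-- A non-zero section of a coherent detected module on an affine is seen by a functional. -/
theorem exists_functional {G : X.Modules} (hG : Coh.IsCoh G) (hd : Det G) {V : X.Opens} (hV : IsAffineOpen V)
    {m : Γ(G, V)} (hm : m ≠ 0) : ∃ φ : Γ(G, V) →ₗ[Γ(X, V)] Γ(X, V), φ m ≠ 0 := by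
  obtain ⟨y, hy, hf, hne⟩ : ∃ (y : X) (hy : y ∈ V), IsField (X.presheaf.stalk y) ∧
      G.presheaf.germ V y hy m ≠ 0 := by
    by_contra hc
    push Not at hc
    exact hm (hd V m fun y hy hf => hc y hy hf)
  letI := QCoh.stalkModule G hy
  letI := QCoh.stalkAlg (X := X) hy
  haveI := QCoh.isScalarTower_stalk G hy
  haveI := QCoh.isLocalization_stalk' hV hy
  haveI := QCoh.isLocalizedModule_germLin hG.1 hV hy
  letI := hf.toField
  obtain ⟨ψ, hψ⟩ : ∃ ψ : G.presheaf.stalk y →ₗ[X.presheaf.stalk y] X.presheaf.stalk y,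
      ψ (G.presheaf.germ V y hy m) ≠ 0 := by
    obtain ⟨ψ, hψ⟩ := Module.Projective.exists_dual_ne_zero (X.presheaf.stalk y) hne
    exact ⟨ψ, hψ⟩
  haveI : IsNoetherianRing Γ(X, V) := IsLocallyNoetherian.component_noetherian ⟨V, hV⟩
  haveI := QCoh.finite_sections hG hV
  haveI : Module.FinitePresentation Γ(X, V) Γ(G, V) := Module.finitePresentation_of_finite _ _
  haveI : IsLocalizedModule (hV.primeIdealOf ⟨y, hy⟩).asIdeal.primeCompl
      (Algebra.linearMap Γ(X, V) (X.presheaf.stalk y)) := by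
    refine isLocalizedModule_iff_isLocalization.2 ?_
    have he : Algebra.algebraMapSubmonoid Γ(X, V) (hV.primeIdealOf ⟨y, hy⟩).asIdeal.primeCompl =
        (hV.primeIdealOf ⟨y, hy⟩).asIdeal.primeCompl := Submonoid.map_id _
    rw [he]; exact QCoh.isLocalization_stalk' hV hy
  obtain ⟨φ, s, hs⟩ := Module.FinitePresentation.exists_lift_of_isLocalizedModule
    (hV.primeIdealOf ⟨y, hy⟩).asIdeal.primeCompl (Algebra.linearMap Γ(X, V) (X.presheaf.stalk y))
    ((ψ.restrictScalars Γ(X, V)) ∘ₗ QCoh.germLin G hy)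
  refine ⟨φ, fun h0 => hψ ?_⟩
  have h1 := LinearMap.congr_fun hs m
  rw [LinearMap.comp_apply, h0, map_zero] at h1
  have hu : IsUnit (algebraMap Γ(X, V) (X.presheaf.stalk y) (s : Γ(X, V))) :=
    IsLocalization.map_units (X.presheaf.stalk y) s
  refine (hu.mul_right_eq_zero).1 ?_
  rw [← Algebra.smul_def]
  exact h1.symm

variable (h : Y ⟶ X) [Flat h] [IsAffineHom h]

theorem eq_zero_of_germ {G : X.Modules} (hG : Coh.IsCoh G) (hd : Det G) {V : X.Opens} (hV : IsAffineOpen V)
    (t : Γ((Scheme.Modules.pullback h).obj G, h ⁻¹ᵁ V))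
    (ht : ∀ (y : Y) (hy : y ∈ h ⁻¹ᵁ V), IsField (Y.presheaf.stalk y) →
      ((Scheme.Modules.pullback h).obj G).presheaf.germ (h ⁻¹ᵁ V) y hy t = 0) : t = 0 := by
  classical
  let W := h ⁻¹ᵁ V
  have hW : IsAffineOpen W := hV.preimage h
  let N := (Scheme.Modules.pullback h).obj G
  have hN : Coh.IsQCoh N := QCoh.isQCoh_pullback h hG.1
  letI : Algebra Γ(X, V) Γ(Y, W) := (h.appLE V W le_rfl).hom.toAlgebra
  letI : Module Γ(X, V) Γ(N, W) := Module.compHom _ (h.appLE V W le_rfl).hom
  haveI : IsScalarTower Γ(X, V) Γ(Y, W) Γ(N, W) := IsScalarTower.of_algebraMap_smul fun _ _ => rfl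
  let l : Γ(G, V) →ₗ[Γ(X, V)] Γ(N, W) :=
    { toFun := QCoh.pullSec h G le_rfl
      map_add' := QCoh.pullSec_add h G le_rfl
      map_smul' := fun a m => QCoh.pullSec_smul h G le_rfl a m }
  have hbc : IsBaseChange Γ(Y, W) l :=
    QCoh.isBaseChange_pullback (hV := hV) (hW := hW) h hG.1 le_rfl (fun _ => rfl) l fun _ => rfl
  haveI : Module.Flat Γ(X, V) Γ(Y, W) := Flat.flat_appLE h hV hW le_rfl
  haveI : IsNoetherianRing Γ(X, V) := IsLocallyNoetherian.component_noetherian ⟨V, hV⟩
  haveI := QCoh.finite_sections hG hV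
  haveI : Module.FinitePresentation Γ(X, V) Γ(G, V) := Module.finitePresentation_of_finite _ _
  obtain ⟨n, φ, hφ⟩ : ∃ (n : ℕ) (φ : Fin n → (Γ(G, V) →ₗ[Γ(X, V)] Γ(X, V))),
      Submodule.span Γ(X, V) (Set.range φ) = ⊤ := Module.Finite.exists_fin
  have hΦ : Function.Injective (LinearMap.pi φ) := (injective_iff_map_eq_zero _).2 fun m hm => by
    by_contra hne
    obtain ⟨ψ, hψ⟩ := exists_functional hG hd hV hne
    refine hψ ?_
    clear hψ
    have hmem : ψ ∈ Submodule.span Γ(X, V) (Set.range φ) := by rw [hφ]; trivial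
    induction hmem using Submodule.span_induction with
    | mem x hx => obtain ⟨i, rfl⟩ := hx; exact congrFun hm i
    | zero => rfl
    | add x y _ _ hx hy => exact (LinearMap.add_apply x y m).trans (by rw [hx, hy, add_zero])
    | smul a x _ hx => exact (LinearMap.smul_apply a x m).trans (by rw [hx, smul_zero])
  let ψ : Fin n → (Γ(N, W) →ₗ[Γ(Y, W)] Γ(Y, W)) := fun i =>
    hbc.lift ((Algebra.linearMap Γ(X, V) Γ(Y, W)) ∘ₗ φ i)
  have hinj : ∀ v : Γ(N, W), (∀ i, ψ i v = 0) → v = 0 := by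
    intro v hv
    obtain ⟨w, rfl⟩ := hbc.equiv.surjective v
    suffices w = 0 by rw [this, map_zero]
    refine (injective_iff_map_eq_zero _).1 (Module.Flat.lTensor_preserves_injective_linearMap (M := Γ(Y, W))
      (LinearMap.pi φ) hΦ) w ?_
    refine (TensorProduct.piScalarRight Γ(X, V) Γ(Y, W) Γ(Y, W) (Fin n)).injective ?_
    rw [map_zero]
    funext i
    refine Eq.trans ?_ (hv i)
    clear hv
    induction w using TensorProduct.induction_on with
    | zero => simp
    | tmul b m =>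
      rw [LinearMap.lTensor_tmul, TensorProduct.piScalarRight_apply, TensorProduct.piScalarRightHom_tmul,
        IsBaseChange.equiv_tmul, map_smul, IsBaseChange.lift_eq]
      show φ i m • b = b • algebraMap Γ(X, V) Γ(Y, W) (φ i m)
      rw [Algebra.smul_def, smul_eq_mul, mul_comm]
    | add a b ha hb => simp only [map_add, Pi.add_apply, ha, hb]
  refine hinj t fun i => ?_
  refine (basicOpen_eq_bot_iff (ψ i t)).1 (Opens.ext (Set.eq_empty_of_forall_notMem fun x hx => ?_))
  obtain ⟨g, hg, hcl, -⟩ := exists_generic_of_component (irreducibleComponent_mem_irreducibleComponents x)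
  have hgx : g ⤳ x := specializes_iff_mem_closure.2 (by rw [hcl]; exact mem_irreducibleComponent)
  have hgb : g ∈ Y.basicOpen (ψ i t) := hgx.mem_open (Y.basicOpen (ψ i t)).2 hx
  have hy : g ∈ W := Y.basicOpen_le _ hgb
  have hf := mem_genericPoints_iff.1 hg
  obtain ⟨b, hyb, hb⟩ := (QCoh.germ_eq_zero_iff hN hW hy t).1 (ht g hy hf)
  have h1 : b * ψ i t = 0 := by
    have h2 : ψ i (b • t) = b • ψ i t := map_smul _ _ _
    rw [hb, map_zero] at h2
    exact h2.symm
  have h3 := congrArg (Y.presheaf.germ W g hy) h1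
  rw [map_mul, map_zero] at h3
  haveI : Nontrivial (Y.presheaf.stalk g) := inferInstance
  exact ((Y.mem_basicOpen (ψ i t) g hy).1 hgb).ne_zero (((Y.mem_basicOpen b g hy).1 hyb).mul_right_eq_zero.1 h3)

theorem det_pullback {G : X.Modules} (hG : Coh.IsCoh G) (hd : Det G) : Det ((Scheme.Modules.pullback h).obj G) := by
  intro U s hs
  let N := (Scheme.Modules.pullback h).obj G
  have hN : Coh.IsQCoh N := QCoh.isQCoh_pullback h hG.1
  refine TopCat.Presheaf.section_ext ⟨N.presheaf, N.isSheaf⟩ U _ _ fun x hx => ?_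
  show N.presheaf.germ U x hx s = N.presheaf.germ U x hx 0
  rw [map_zero]
  obtain ⟨V, hV, hxV, -⟩ := exists_isAffineOpen_mem_and_subset (U := (⊤ : X.Opens)) (x := h x) trivial
  have hW : IsAffineOpen (h ⁻¹ᵁ V) := hV.preimage h
  obtain ⟨b, hbU, hxb⟩ := hW.exists_basicOpen_le ⟨x, hx⟩ (show x ∈ h ⁻¹ᵁ V from hxV)
  obtain ⟨n, t, ht⟩ := QCoh.exists_pow_smul_eq_map hN hW b (N.presheaf.map (homOfLE hbU).op s)
  have hu : ∀ (y : Y) (hy : y ∈ Y.basicOpen b),
      IsUnit (Y.presheaf.germ (h ⁻¹ᵁ V) y (Y.basicOpen_le b hy) b) := fun y hy => (Y.mem_basicOpen _ y _).1 hy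
  have hgerm : ∀ (y : Y) (hy : y ∈ Y.basicOpen b),
      N.presheaf.germ (h ⁻¹ᵁ V) y (Y.basicOpen_le b hy) t =
        (Y.presheaf.germ (h ⁻¹ᵁ V) y (Y.basicOpen_le b hy) b) ^ n • N.presheaf.germ U y (hbU hy) s := by
    intro y hy
    rw [← N.presheaf.germ_res_apply (homOfLE (Y.basicOpen_le b)) y hy t, ht, QCoh.germ_smul', map_pow,
      N.presheaf.germ_res_apply (homOfLE hbU) y hy s, Y.presheaf.germ_res_apply]
  have h0 : b • t = 0 := eq_zero_of_germ h hG hd hV (b • t) fun y hy hf => by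
    rw [QCoh.germ_smul']
    by_cases hyb : y ∈ Y.basicOpen b
    · rw [hgerm y hyb, hs y (hbU hyb) hf, smul_zero, smul_zero]
    · have : Y.presheaf.germ (h ⁻¹ᵁ V) y hy b = 0 := by
        by_contra hne
        letI := hf.toField
        exact hyb ((Y.mem_basicOpen _ y hy).2 (IsUnit.mk0 _ hne))
      rw [this]; exact zero_smul _ _
  have h1 := congrArg (N.presheaf.germ (h ⁻¹ᵁ V) x hxV) h0
  rw [QCoh.germ_smul', map_zero, hgerm x hxb, smul_smul] at h1
  exact ((hu x hxb).mul ((hu x hxb).pow n)).smul_eq_zero.1 h1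

end Groth.Agent.TFGeo7

end
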