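import Groth.Agent.TFQuot7.Rows
import Groth.Agent.IntNum.Leading

/-! The numbers `β` as Euler characteristics, on schemes of dimension at most one. -/

set_option autoImplicit false
set_option maxHeartbeats 400000
set_option backward.isDefEq.respectTransparency false
set_option backward.isDefEq.respectTransparency.types false
set_option linter.unusedSectionVars false
set_option linter.style.haveILetI false

universe u

open CategoryTheory CategoryTheory.Limits AlgebraicGeometry TopologicalSpace Opposite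

noncomputable section

namespace Groth.Agent.TFGeo7

open Groth.Agent Groth.Agent.TFQuot7 CycK

variable {k : Type u} [Field k] {X : Scheme.{u}} [X.Over (Spec (CommRingCat.of k))]
  [IsProper (X ↘ Spec (CommRingCat.of k))] [AlgebraicGeometry.IsReduced X]
  (hdim : topologicalKrullDim X ≤ (1 : ℕ))

theorem le_zero_of_lt_one {x : WithBot ℕ∞} (h : x < ((1 : ℕ) : WithBot ℕ∞)) : x ≤ ((0 : ℕ) : WithBot ℕ∞) := by
  induction x using WithBot.recBotCoe with
  | bot => exact bot_le
  | coe a =>
    have h1 : a < 1 := WithBot.coe_lt_coe.1 h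
    rw [ENat.lt_one_iff_eq_zero.1 h1]
    exact le_rfl

theorem isClosed_point {C : Set X} (hC : topologicalKrullDim ↥C < ((1 : ℕ) : WithBot ℕ∞)) (hcl : IsClosed C) {y : X}
    (hy : y ∈ C) : IsClosed ({y} : Set X) := by
  have hd : topologicalKrullDim ↥(closure ({y} : Set X)) ≤ ((0 : ℕ) : WithBot ℕ∞) :=
    (H23.TopDim.dim_le_dim_of_subset (hcl.closure_subset_iff.2 (Set.singleton_subset_iff.2 hy))).trans
      (le_zero_of_lt_one hC)
  refine isClosed_of_closure_subset fun z hz => ?_
  by_contra hne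
  have h := IntNum.dim_closure_lt (isClosed_closure.closure_subset_iff.2 (Set.singleton_subset_iff.2 hz)) hne hd
  haveI : Nonempty (IrreducibleCloseds ↥(closure ({z} : Set X))) :=
    ⟨⟨closure {⟨z, subset_closure rfl⟩}, isIrreducible_singleton.closure, isClosed_closure⟩⟩
  exact absurd h (not_lt.2 Order.krullDim_nonneg)

include hdim in
theorem field_of_dim_one {ξ : X} (hξ : topologicalKrullDim ↥(closure ({ξ} : Set X)) = ((1 : ℕ) : WithBot ℕ∞)) :
    IsField (X.presheaf.stalk ξ) := by
  refine mem_genericPoints_iff.1 (mem_genericPoints_of_maximal fun y hy => ?_)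
  by_contra hne
  exact (IntNum.dim_closure_lt (specializes_iff_closure_subset.1 hy) (Ne.symm hne)
    ((H23.TopDim.dim_le_dim_of_subset (Set.subset_univ _)).trans
      ((Homeomorph.Set.univ X).isInducing.topologicalKrullDim_le.trans hdim))).ne hξ

include hdim in
theorem dev_congr {E : X.Modules} {r : ℕ} (hE : FlatMod.IsFinLocFreeOfRank r E) {F F' : X.Modules}
    (hF : Coh.IsCoh F) (hF' : Coh.IsCoh F')
    (hl : ∀ y : X, IsField (X.presheaf.stalk y) → IntNum.lenAt F y = IntNum.lenAt F' y) :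
    dev k E r F = dev k E r F' := by
  classical
  haveI := CurveCohLib.isNoetherian_of_proper (k := k) (X := X)
  have hd : ∀ (M : X.Modules), topologicalKrullDim ↥(CohB1.support M) ≤ ((1 : ℕ) : WithBot ℕ∞) := fun M =>
    Topology.IsInducing.subtypeVal.topologicalKrullDim_le.trans hdim
  have key : ∀ {M : X.Modules}, Coh.IsCoh M → ∃ S : Finset X,
      (∀ ξ ∈ S, topologicalKrullDim ↥(closure ({ξ} : Set X)) = ((1 : ℕ) : WithBot ℕ∞)) ∧
      (∀ ξ : X, topologicalKrullDim ↥(closure ({ξ} : Set X)) = ((1 : ℕ) : WithBot ℕ∞) → ξ ∉ S →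
        IntNum.lenAt M ξ = 0) ∧
      dev k E r M = ∑ ξ ∈ S, IntNum.lenAt M ξ • dev k E r (ClSub.quotMod (IntNum.ptIdeal ξ)) := by
    intro M hM
    obtain ⟨S, h1, h2, h3⟩ := IntNum.leading (⊥ : AddSubgroup ℤ) (dev k E r) 1
      (fun e => by
        unfold dev
        rw [CurveCohLib.euler_congr (k := k) e, CurveCohLib.euler_congr (k := k) ((DCoh.tensorBi.obj E).mapIso e)])
      (dev_additive k hE)
      (fun N hN hsmall => AddSubgroup.mem_bot.2 (dev_eq_zero k hE hN fun y hy =>
        isClosed_point hsmall (QCoh.isClosed_support_of_isFT hN.1 hN.2) hy))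
      hM (hd M)
    exact ⟨S, h1, h2, sub_eq_zero.1 (AddSubgroup.mem_bot.1 h3)⟩
  obtain ⟨S, h1, h2, h3⟩ := key hF
  obtain ⟨S', h1', h2', h3'⟩ := key hF'
  rw [h3, h3', Finset.sum_subset (Finset.subset_union_left (s₂ := S')) fun ξ hξ hn => by
      rcases Finset.mem_union.1 hξ with h | h
      · exact absurd h hn
      · rw [h2 ξ (h1' ξ h) hn, zero_smul],
    Finset.sum_subset (Finset.subset_union_right (s₁ := S) (s₂ := S')) fun ξ hξ hn => by
      rcases Finset.mem_union.1 hξ with h | h
      · rw [h2' ξ (h1 ξ h) hn, zero_smul]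
      · exact absurd h hn]
  refine Finset.sum_congr rfl fun ξ hξ => ?_
  rw [hl ξ (field_of_dim_one hdim ((Finset.mem_union.1 hξ).elim (h1 ξ) (h1' ξ)))]

theorem lenAt_eq_of_bijective {A B : X.Modules} (φ : A ⟶ B) {y : X} (h : Function.Bijective (sl φ y)) :
    IntNum.lenAt A y = IntNum.lenAt B y :=
  congrArg ENat.toNat (LinearEquiv.length_eq (LinearEquiv.ofBijective (sl φ y) h))

theorem lenAt_rkOne [AlgebraicGeometry.IsNoetherian X] {M : X.Modules} (hM : TFOne.IsRkOne X M) {y : X} (hy : IsField (X.presheaf.stalk y)) :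
    IntNum.lenAt M y = IntNum.lenAt (Coh.structureModule X) y := by
  obtain ⟨e⟩ := hM y (mem_genericPoints_iff.2 hy)
  obtain ⟨e'⟩ := (isTF1_structure (X := X)).2.2 y (mem_genericPoints_iff.2 hy)
  exact congrArg ENat.toNat (LinearEquiv.length_eq (e ≪≫ₗ e'.symm))

include hdim in
/-- The degree of a bundle on a subcurve, computed from any rank-one quotient on it. -/
theorem degOn_eq_dev_quot {E : X.Modules} {r : ℕ} (hE : FlatMod.IsFinLocFreeOfRank r E) {T : Set X} (hT : IsClosed T)
    (hTu : IsUC T) {M G : X.Modules} {π : M ⟶ G} (hM : TFOne.IsRkOne X M) (hG : TFOne.IsQuotOn X M T G π) :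
    degOn k E r T hT = dev k E r G := by
  haveI := CurveCohLib.isNoetherian_of_proper (k := k) (X := X)
  have hO := isTF1_structure (X := X)
  obtain ⟨P, πP, hP⟩ := exists_quotOn hO hTu
  rw [degOn_eq_dev k hE hT hTu hP]
  refine dev_congr hdim hE hP.2.1 hG.2.1 fun y hy => ?_
  by_cases hyT : y ∈ T
  · rw [← lenAt_eq_of_bijective πP (quot_bijective hO.2.2 hP hy hyT),
      ← lenAt_eq_of_bijective π (quot_bijective hM hG hy hyT), lenAt_rkOne hM hy]
  · rw [IntNum.lenAt_eq_zero (by rw [hP.2.2.2]; exact hyT), IntNum.lenAt_eq_zero (by rw [hG.2.2.2]; exact hyT)]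

/-- `χ(E ⊗ G)`. -/
def chiT (E G : X.Modules) : ℤ := Curv2.euler k X ((DCoh.tensorBi.obj E).obj G)

include hdim in
/-- `β(T) = χ(E ⊗ G_T)`. -/
theorem beta_eq_chiT {E : X.Modules} {r : ℕ} (hE : FlatMod.IsFinLocFreeOfRank r E) {T : Set X} (hT : IsClosed T)
    (hTu : IsUC T) {M G : X.Modules} {π : M ⟶ G} (hM : TFOne.IsRkOne X M) (hG : TFOne.IsQuotOn X M T G π) :
    beta k E r T hT G = chiT (k := k) E G := by
  unfold beta chiT
  rw [degOn_eq_dev_quot hdim hE hT hTu hM hG]
  unfold dev
  ring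

include hdim in
/-- Any coherent quotient bounds the `β` of the torsion-free quotient on its one-dimensional support. -/
theorem beta_le_chiT {E : X.Modules} {r : ℕ} (hE : FlatMod.IsFinLocFreeOfRank r E) {M F : X.Modules}
    (hM : TFOne.IsTF1 X M) (hF : Coh.IsCoh F) (q : M ⟶ F) [Epi q] :
    ∃ (Z : Set X) (hZ : IsClosed Z) (G : X.Modules) (π : M ⟶ G), IsUC Z ∧ TFOne.IsQuotOn X M Z G π ∧
      beta k E r Z hZ G ≤ chiT (k := k) E F ∧
      ∀ y ∈ genericPoints X, (y ∈ Z ↔ y ∈ CohB1.support F) := by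
  haveI := CurveCohLib.isNoetherian_of_proper (k := k) (X := X)
  let Z : Set X := ⋃₀ {C | C ∈ irreducibleComponents (X : Type u) ∧
    ∃ y ∈ genericPoints X, y ∈ CohB1.support F ∧ closure {y} = C}
  have hZu : IsUC Z := isUC_sUnion _
  have hZg : ∀ y ∈ genericPoints X, (y ∈ Z ↔ y ∈ CohB1.support F) := fun y hy => by
    refine ⟨fun ⟨C, ⟨_, y', hy', hs, hC⟩, hyC⟩ => ?_, fun h => ⟨closure {y}, ⟨hy, y, hy, h, rfl⟩, subset_closure rfl⟩⟩
    rw [← TFCurvLib.eq_of_specializes_of_isField (mem_genericPoints_iff.1 hy)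
      (specializes_iff_mem_closure.2 (show y ∈ closure {y'} by rw [hC]; exact hyC))]
    exact hs
  have hbij : ∀ y, IsField (X.presheaf.stalk y) → y ∈ Z → Function.Bijective (sl q y) := fun y hy hyZ => by
    refine ⟨?_, sl_surjective q y⟩
    obtain ⟨e⟩ := hM.2.2 y (mem_genericPoints_iff.2 hy)
    refine injective_of_rankOne hy e _ ?_
    by_contra hc
    push Not at hc
    exact (hZg y (mem_genericPoints_iff.2 hy)).1 hyZ (subsingleton_of_forall_eq 0 fun w => by
      obtain ⟨v, rfl⟩ := sl_surjective q y w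
      exact hc v)
  obtain ⟨G, π, hG⟩ := exists_quotOn hM hZu
  haveI := hG.1
  have hk : kernel.ι q ≫ π = 0 := (quot_det hG).hom_eq_zero _ fun y hy v => by
    rw [sl_comp_apply]
    by_cases hyZ : y ∈ Z
    · rw [(injective_iff_map_eq_zero _).1 (hbij y hy hyZ).1 (sl (kernel.ι q) y v)
        (by rw [← sl_comp_apply, kernel.condition, sl_zero]; rfl), map_zero]
    · exact (quot_subsingleton hG hyZ).elim _ _
  let φ : F ⟶ G := Abelian.epiDesc q π hk
  have hφ : q ≫ φ = π := Abelian.comp_epiDesc _ _ _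
  haveI : Epi φ := epi_of_epi_fac hφ
  have hφb : ∀ y, IsField (X.presheaf.stalk y) → Function.Bijective (sl φ y) := fun y hy => by
    refine ⟨?_, sl_surjective φ y⟩
    by_cases hyZ : y ∈ Z
    · refine (injective_iff_map_eq_zero _).2 fun w hw => ?_
      obtain ⟨v, rfl⟩ := sl_surjective q y w
      rw [← sl_comp_apply, hφ] at hw
      rw [(injective_iff_map_eq_zero _).1 (quot_injective hM.2.2 hG hy hyZ) v hw, map_zero]
    · intro a b _
      exact (not_not.1 fun h => hyZ ((hZg y (mem_genericPoints_iff.2 hy)).2 h) :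
        Subsingleton (F.presheaf.stalk y)).elim _ _
  refine ⟨Z, hZu.isClosed, G, π, hZu, hG, ?_, hZg⟩
  have hKc : Coh.IsCoh (kernel φ) := QCoh.isCoh_kernel hF hG.2.1 φ
  have hK0 : ∀ y ∈ CohB1.support (kernel φ), IsClosed ({y} : Set X) := fun y hy => by
    by_contra hc
    have hfy : IsField (X.presheaf.stalk y) := by
      refine mem_genericPoints_iff.1 (mem_genericPoints_of_maximal fun y' hy' => ?_)
      by_contra hne
      refine hc (isClosed_point (C := closure ({y} : Set X)) ?_ isClosed_closure (subset_closure rfl))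
      exact IntNum.dim_closure_lt (specializes_iff_closure_subset.1 hy') (Ne.symm hne)
        (Topology.IsInducing.subtypeVal.topologicalKrullDim_le.trans hdim)
    refine hy (subsingleton_of_forall_eq 0 fun w => sl_injective (kernel.ι φ) y ?_)
    rw [map_zero]
    refine (hφb y hfy).1 ?_
    rw [← sl_comp_apply, kernel.condition, map_zero, sl_zero]
    rfl
  have h1 := (euler_isAdditive k).kernel_eq hF hG.2.1 φ
  have h2 : dev k E r G = dev k E r F := dev_congr hdim hE hG.2.1 hF fun y hy =>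
    (lenAt_eq_of_bijective φ (hφb y hy)).symm
  have h3 : 0 ≤ Curv2.euler k X (kernel φ) := by
    rw [CurveCohLib.euler_eq_finrank_zero (k := k) hKc hK0]; positivity
  have h4 : Curv2.euler k X G ≤ Curv2.euler k X F := by omega
  unfold beta chiT
  rw [degOn_eq_dev_quot hdim hE _ hZu hM.2.2 hG, h2]
  unfold dev
  nlinarith

end Groth.Agent.TFGeo7

end
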