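import Groth.Agent.TFGeo7.Transfer
import Groth.Agent.TFQuot7.Limit
import Groth.Agent.QCoh.Support
import Groth.Agent.GrpSchLib.GeomIrr

/-! Relatively torsion-free rank-one modules over a discrete valuation ring: geometric fibres and modifications. -/

set_option autoImplicit false
set_option maxHeartbeats 400000
set_option backward.isDefEq.respectTransparency false
set_option backward.isDefEq.respectTransparency.types false
set_option linter.unusedSectionVars false
set_option linter.style.haveILetI false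

universe u

open CategoryTheory CategoryTheory.Limits AlgebraicGeometry TopologicalSpace Opposite

noncomputable section

namespace Groth.Agent.TFGeo7

open Groth.Agent Groth.Agent.TFQuot7 CycK

local notation "κ[" R "]" => IsLocalRing.ResidueField R

variable {R : Type u} [CommRing R] [IsDomain R] [IsDiscreteValuationRing R] {X : Scheme.{u}}
  (f : X ⟶ Spec (CommRingCat.of R)) [IsProper f] {Xs : Scheme.{u}} [Xs.Over (Spec (CommRingCat.of κ[R]))]
  {i : Xs ⟶ X} (hsq : IsPullback i (Xs ↘ Spec (CommRingCat.of κ[R])) f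
    (Spec.map (CommRingCat.ofHom (IsLocalRing.residue R))))
  [AlgebraicGeometry.IsReduced Xs]
  (hgi : ∀ (C : Set Xs) (hC : C ∈ irreducibleComponents (Xs : Type u)),
    GeometricallyIntegral (VecSt.subschι Xs C (isClosed_of_mem_irreducibleComponents C hC) ≫
      (Xs ↘ Spec (CommRingCat.of κ[R]))))

include hsq in
theorem proper_special : IsProper (Xs ↘ Spec (CommRingCat.of κ[R])) :=
  MorphismProperty.of_isPullback hsq inferInstance

include f in
theorem noetherian_total : AlgebraicGeometry.IsNoetherian X :=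
  haveI : IsLocallyNoetherian X := LocallyOfFiniteType.isLocallyNoetherian f
  haveI : CompactSpace X := QuasiCompact.compactSpace_of_compactSpace f
  { }

include hsq hgi in
/-- A geometric point of the closed point gives a field extension of the special fibre. -/
theorem exists_ext (Ω : Type u) [Field Ω] [Algebra κ[R] Ω] (Y : Scheme.{u}) [Y.Over (Spec (CommRingCat.of Ω))]
    (iY : Y ⟶ X) (sq : IsPullback iY (Y ↘ Spec (CommRingCat.of Ω)) f
      (Spec.map (CommRingCat.ofHom (algebraMap κ[R] Ω)) ≫ Spec.map (CommRingCat.ofHom (IsLocalRing.residue R)))) :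
    ∃ D : Ext κ[R] Ω Xs Y, D.h ≫ i = iY := by
  let h : Y ⟶ Xs := hsq.lift iY ((Y ↘ Spec (CommRingCat.of Ω)) ≫ Spec.map (CommRingCat.ofHom (algebraMap κ[R] Ω)))
    (by rw [sq.w, Category.assoc])
  have h1 : h ≫ i = iY := hsq.lift_fst _ _ _
  have h2 : h ≫ (Xs ↘ Spec (CommRingCat.of κ[R])) =
      (Y ↘ Spec (CommRingCat.of Ω)) ≫ Spec.map (CommRingCat.ofHom (algebraMap κ[R] Ω)) := hsq.lift_snd _ _ _
  exact ⟨⟨h, IsPullback.of_right (by rw [h1]; exact sq) h2 hsq, proper_special f hsq, inferInstance, hgi⟩, h1⟩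

include hsq hgi in
/-- Two kinds of geometric fibres. -/
theorem fibre_cases {Xg : Scheme.{u}} [Xg.Over (Spec (CommRingCat.of (FractionRing R)))] {j : Xg ⟶ X}
    (hgen : IsPullback j (Xg ↘ Spec (CommRingCat.of (FractionRing R))) f
      (Spec.map (CommRingCat.ofHom (algebraMap R (FractionRing R)))))
    (P : ∀ (Ω : Type u) [Field Ω] [IsAlgClosed Ω] (_ : Spec (CommRingCat.of Ω) ⟶ Spec (CommRingCat.of R))
      (Y : Scheme.{u}) (_ : Y ⟶ X) (_ : Y ⟶ Spec (CommRingCat.of Ω)), Prop)
    (hs : ∀ (Ω : Type u) [Field Ω] [IsAlgClosed Ω] [Algebra κ[R] Ω] (Y : Scheme.{u})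
      [Y.Over (Spec (CommRingCat.of Ω))] (D : Ext κ[R] Ω Xs Y),
      P Ω (Spec.map (CommRingCat.ofHom (algebraMap κ[R] Ω)) ≫ Spec.map (CommRingCat.ofHom (IsLocalRing.residue R)))
        Y (D.h ≫ i) (Y ↘ Spec (CommRingCat.of Ω)))
    (hg : ∀ (Ω : Type u) [Field Ω] [IsAlgClosed Ω] (tg : Spec (CommRingCat.of Ω) ⟶ Spec (CommRingCat.of (FractionRing R)))
      (Y : Scheme.{u}) (iY : Y ⟶ Xg) (qY : Y ⟶ Spec (CommRingCat.of Ω)),
      IsPullback iY qY (Xg ↘ Spec (CommRingCat.of (FractionRing R))) tg →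
      P Ω (tg ≫ Spec.map (CommRingCat.ofHom (algebraMap R (FractionRing R)))) Y (iY ≫ j) qY)
    (Ω : Type u) [Field Ω] [IsAlgClosed Ω] (t : Spec (CommRingCat.of Ω) ⟶ Spec (CommRingCat.of R))
    (Y : Scheme.{u}) (iY : Y ⟶ X) (qY : Y ⟶ Spec (CommRingCat.of Ω)) (sq : IsPullback iY qY f t) :
    P Ω t Y iY qY := by
  obtain ⟨φ, rfl⟩ := Spec.map_surjective t
  let ψ : R →+* Ω := φ.hom
  by_cases hinj : Function.Injective ψ
  · let ρ : FractionRing R →+* Ω := IsFractionRing.lift hinj
    have hρ : Spec.map φ = Spec.map (CommRingCat.ofHom ρ) ≫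
        Spec.map (CommRingCat.ofHom (algebraMap R (FractionRing R))) := by
      rw [← Spec.map_comp]
      congr 1
      exact CommRingCat.hom_ext (RingHom.ext fun a => (IsFractionRing.lift_algebraMap hinj a).symm)
    rw [hρ] at sq ⊢
    let h : Y ⟶ Xg := hgen.lift iY (qY ≫ Spec.map (CommRingCat.ofHom ρ)) (by rw [sq.w, Category.assoc])
    have h1 : h ≫ j = iY := hgen.lift_fst _ _ _
    rw [← h1] at sq ⊢
    exact hg Ω _ Y h qY (IsPullback.of_right sq (hgen.lift_snd _ _ _) hgen)
  · have hker : RingHom.ker ψ = IsLocalRing.maximalIdeal R := by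
      haveI := RingHom.ker_isPrime ψ
      have hne : RingHom.ker ψ ≠ ⊥ := fun h => hinj ((RingHom.injective_iff_ker_eq_bot ψ).2 h)
      exact IsLocalRing.eq_maximalIdeal ((RingHom.ker_isPrime ψ).isMaximal hne)
    letI : Algebra κ[R] Ω := (Ideal.Quotient.lift (IsLocalRing.maximalIdeal R) ψ fun a ha => by
      rw [← hker] at ha; exact ha).toAlgebra
    have hρ : Spec.map φ = Spec.map (CommRingCat.ofHom (algebraMap κ[R] Ω)) ≫
        Spec.map (CommRingCat.ofHom (IsLocalRing.residue R)) := by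
      rw [← Spec.map_comp]
      rfl
    rw [hρ] at sq ⊢
    letI : Y.Over (Spec (CommRingCat.of Ω)) := ⟨qY⟩
    obtain ⟨D, rfl⟩ := exists_ext f hsq hgi Ω Y iY sq
    exact hs Ω Y D

/-- The pullback of a composite. -/
def compIso {A B : Scheme.{u}} (a : A ⟶ B) (b : B ⟶ X) (F : X.Modules) :
    (Scheme.Modules.pullback a).obj ((Scheme.Modules.pullback b).obj F) ≅ (Scheme.Modules.pullback (a ≫ b)).obj F :=
  (Scheme.Modules.pullbackComp a b).app F

include hsq in
theorem ext_square (Ω : Type u) [Field Ω] [Algebra κ[R] Ω] {Y : Scheme.{u}} [Y.Over (Spec (CommRingCat.of Ω))]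
    (D : Ext κ[R] Ω Xs Y) : IsPullback (D.h ≫ i) (Y ↘ Spec (CommRingCat.of Ω)) f
      (Spec.map (CommRingCat.ofHom (algebraMap κ[R] Ω)) ≫ Spec.map (CommRingCat.ofHom (IsLocalRing.residue R))) :=
  D.sq.paste_horiz hsq

include hsq in
theorem isTF1_geom {F : X.Modules} (hF : TFOne.IsRelTF1 f F) (Ω : Type u) [Field Ω] [IsAlgClosed Ω]
    [Algebra κ[R] Ω] {Y : Scheme.{u}} [Y.Over (Spec (CommRingCat.of Ω))] (D : Ext κ[R] Ω Xs Y) :
    TFOne.IsTF1 Y ((Scheme.Modules.pullback D.h).obj ((Scheme.Modules.pullback i).obj F)) :=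
  haveI := D.noetherian'
  isTF1_congr (compIso D.h i F).symm (hF.2.2 Ω _ Y _ _ (ext_square f hsq Ω D))

include hsq hgi in
theorem isTF1_special {F : X.Modules} (hF : TFOne.IsRelTF1 f F) :
    TFOne.IsTF1 Xs ((Scheme.Modules.pullback i).obj F) := by
  let Ω := AlgebraicClosure κ[R]
  let g := Spec.map (CommRingCat.ofHom (algebraMap κ[R] Ω))
  let Y := pullback (Xs ↘ Spec (CommRingCat.of κ[R])) g
  letI : Y.Over (Spec (CommRingCat.of Ω)) := ⟨pullback.snd _ _⟩
  let D : Ext κ[R] Ω Xs Y :=
    ⟨pullback.fst _ _, IsPullback.of_hasPullback _ _, proper_special f hsq, inferInstance, hgi⟩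
  haveI := noetherian_total f
  exact D.isTF1_descend (ZClosLib.isCoh_pullback i ⟨QCoh.isQCoh_of_isFP hF.2.1, QCoh.isFT_of_isFP hF.2.1⟩)
    (isTF1_geom f hsq hF Ω D)

include hsq hgi in
/-- A modification of a relatively torsion-free rank-one module is one, with the same generic fibre. -/
theorem relTF1_modification {Xg : Scheme.{u}} [Xg.Over (Spec (CommRingCat.of (FractionRing R)))] {j : Xg ⟶ X}
    (hgen : IsPullback j (Xg ↘ Spec (CommRingCat.of (FractionRing R))) f
      (Spec.map (CommRingCat.ofHom (algebraMap R (FractionRing R))))) {I : X.Modules} (hI : TFOne.IsRelTF1 f I)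
    {T : Set Xs} {G : Xs.Modules} {π : (Scheme.Modules.pullback i).obj I ⟶ G}
    (hG : TFOne.IsQuotOn Xs ((Scheme.Modules.pullback i).obj I) T G π) :
    TFOne.IsRelTF1 f (kernel (qMap i π)) ∧
      Nonempty ((Scheme.Modules.pullback j).obj (kernel (qMap i π)) ≅ (Scheme.Modules.pullback j).obj I) ∧
      ∃ (δ : G ⟶ (Scheme.Modules.pullback i).obj (kernel (qMap i π)))
        (γ : (Scheme.Modules.pullback i).obj (kernel (qMap i π)) ⟶ (Scheme.Modules.pullback i).obj I),
        IsModif π δ γ := by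
  obtain ⟨ϖ, hϖ⟩ := IsDiscreteValuationRing.exists_irreducible R
  have hϖ' := (IsDiscreteValuationRing.irreducible_iff_uniformizer ϖ).1 hϖ
  haveI := noetherian_total f
  haveI := isClosedImmersion_i f i hsq ϖ hϖ'
  haveI := proper_special f hsq
  haveI := CurveCohLib.isNoetherian_of_proper (k := κ[R]) (X := Xs)
  haveI := hG.1
  have hIc : Coh.IsCoh I := ⟨QCoh.isQCoh_of_isFP hI.2.1, QCoh.isFT_of_isFP hI.2.1⟩
  obtain ⟨hJc, hJf, hepi, -, -, δ, γ, -, -, -, -, hmod, -⟩ :=
    exists_step f i hsq ϖ hϖ' π hIc hI.1 hG.2.1 (J := kernel (qMap i π)) rfl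
  haveI : Flat j := MorphismProperty.of_isPullback hgen.flip (by
    rw [HasRingHomProperty.Spec_iff (P := @Flat)]
    show (algebraMap R (FractionRing R)).Flat
    exact RingHom.flat_algebraMap_iff.2 (IsLocalization.flat (FractionRing R) (nonZeroDivisors R)))
  haveI := RGLib.Lim8.preservesFiniteLimits_pullback j
  haveI := (Scheme.Modules.pullbackPushforwardAdjunction j).left_adjoint_additive
  let e : (Scheme.Modules.pullback j).obj (kernel (qMap i π)) ≅ (Scheme.Modules.pullback j).obj I := by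
    have hzP : IsZero ((Scheme.Modules.pullback j).obj ((Scheme.Modules.pushforward i).obj G)) := by
      have hP := QCoh.isCoh_pushforward_finite i hG.2.1
      refine CurveCohLib.isZero_of_subsingleton_stalks fun w => not_not.1 fun hw => ?_
      have h1 : j w ∈ CohB1.support ((Scheme.Modules.pushforward i).obj G) :=
        (QCoh.support_pullback j hP.1 hP.2).le hw
      obtain ⟨z, hz⟩ := QCoh.support_push_subset i hG.2.1.1 h1
      have h2 : f (i z) = f (j w) := congrArg (fun p => f p) hz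
      have e1 := congr(($(hsq.w)).base z)
      have e2 := congr(($(hgen.w)).base w)
      have h3 : (Spec.map (CommRingCat.ofHom (IsLocalRing.residue R))) ((Xs ↘ Spec (CommRingCat.of κ[R])) z) =
          (Spec.map (CommRingCat.ofHom (algebraMap R (FractionRing R))))
            ((Xg ↘ Spec (CommRingCat.of (FractionRing R))) w) := e1.symm.trans (h2.trans e2)
      have h4 : ϖ ∈ ((Spec.map (CommRingCat.ofHom (IsLocalRing.residue R)))
          ((Xs ↘ Spec (CommRingCat.of κ[R])) z)).asIdeal := by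
        show IsLocalRing.residue R ϖ ∈ ((Xs ↘ Spec (CommRingCat.of κ[R])) z).asIdeal
        rw [(IsLocalRing.residue_eq_zero_iff ϖ).2 (hϖ' ▸ Ideal.mem_span_singleton_self ϖ)]
        exact zero_mem _
      rw [h3] at h4
      have h5 : algebraMap R (FractionRing R) ϖ ∈ ((Xg ↘ Spec (CommRingCat.of (FractionRing R))) w).asIdeal := h4
      exact ((Xg ↘ Spec (CommRingCat.of (FractionRing R))) w).isPrime.ne_top (Ideal.eq_top_of_isUnit_mem _ h5
        (IsUnit.mk0 _ (IsFractionRing.to_map_ne_zero_of_mem_nonZeroDivisors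
          (mem_nonZeroDivisors_of_ne_zero hϖ.ne_zero))))
    haveI : IsIso ((Scheme.Modules.pullback j).map (kernel.ι (qMap i π))) := by
      rw [← kernelComparison_comp_ι (qMap i π) (Scheme.Modules.pullback j)]
      haveI : IsIso (kernel.ι ((Scheme.Modules.pullback j).map (qMap i π))) :=
        KernelFork.IsLimit.isIso_ι (c := KernelFork.ofι _ (kernel.condition ((Scheme.Modules.pullback j).map (qMap i π)))) (kernelIsKernel _) (hzP.eq_of_tgt _ _)
      exact IsIso.comp_isIso
    exact asIso ((Scheme.Modules.pullback j).map (kernel.ι (qMap i π)))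
  refine ⟨⟨hJf, KZ.LFRes.isFP_of_isCoh hJc, ?_⟩, ⟨e⟩, δ, γ, hmod⟩
  refine fibre_cases f hsq hgi hgen
    (fun Ω _ _ _ Y iY _ => TFOne.IsTF1 Y ((Scheme.Modules.pullback iY).obj (kernel (qMap i π)))) ?_ ?_
  · intro Ω _ _ _ Y _ D
    haveI := D.noetherian'
    haveI := D.reduced
    haveI := D.flat
    haveI := D.affine
    haveI := RGLib.Lim8.preservesFiniteLimits_pullback D.h
    haveI := (Scheme.Modules.pullbackPushforwardAdjunction D.h).left_adjoint_additive
    refine isTF1_congr (compIso D.h i _) ?_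
    let PD := Scheme.Modules.pullback D.h
    haveI := hmod.mono
    have hmod' : IsModif (PD.map π) (PD.map δ) (PD.map γ) :=
      { w := by rw [← Functor.map_comp, hmod.w, Functor.map_zero]
        w' := by rw [← Functor.map_comp, hmod.w', Functor.map_zero]
        mono := inferInstance
        exact₁ := hmod.exact₁.map PD
        exact₂ := hmod.exact₂.map PD
        coh := ZClosLib.isCoh_pullback D.h hmod.coh }
    exact hmod'.isTF1 (isTF1_geom f hsq hI Ω D) (D.isQuotOn_pullback hG)
  · intro Ω _ _ tg Y iY qY hY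
    have hsqY := hY.paste_horiz hgen
    haveI : IsProper qY := MorphismProperty.of_isPullback hsqY inferInstance
    haveI : AlgebraicGeometry.IsNoetherian Y := by
      letI : Y.Over (Spec (CommRingCat.of Ω)) := ⟨qY⟩
      haveI : IsProper (Y ↘ Spec (CommRingCat.of Ω)) := ‹IsProper qY›
      exact CurveCohLib.isNoetherian_of_proper (k := Ω) (X := Y)
    exact isTF1_congr ((compIso iY j I).symm ≪≫ (Scheme.Modules.pullback iY).mapIso e.symm ≪≫ compIso iY j _)
      (hI.2.2 Ω _ Y _ qY hsqY)

end Groth.Agent.TFGeo7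

end
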