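import Groth.Agent.TFGeo7.Lim

/-! What the limit of a chain says about the geometric generic fibre. -/

set_option autoImplicit false
set_option maxHeartbeats 400000
set_option backward.isDefEq.respectTransparency false
set_option backward.isDefEq.respectTransparency.types false
set_option linter.unusedSectionVars false
set_option linter.style.haveILetI false

universe u

open CategoryTheory CategoryTheory.Limits AlgebraicGeometry TopologicalSpace Opposite

noncomputable section

namespace Groth.Agent.TFGeo7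

open Groth.Agent Groth.Agent.TFQuot7 CycK

local notation "κ[" R "]" => IsLocalRing.ResidueField R

theorem mono_tMap_tensor {X : Scheme.{u}} {R : Type u} [CommRing R] (f : X ⟶ Spec (CommRingCat.of R)) (a : R)
    {E F : X.Modules} (hE : FlatMod.IsFinLocFree E) [Mono (tMap f F a)] :
    Mono (tMap f ((DCoh.tensorBi.obj E).obj F) a) := by
  have hS : (ShortComplex.mk (tMap f F a) (cokernel.π (tMap f F a)) (cokernel.condition _)).ShortExact :=
    ShortComplex.ShortExact.mk' (ShortComplex.exact_cokernel _) ‹_› inferInstance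
  have h := (CurveTensor.shortExact_tensor hE _ _ _ hS).mono_f
  have e : (DCoh.tensorBi.obj E).map (tMap f F a) = tMap f ((DCoh.tensorBi.obj E).obj F) a :=
    CurveLinear.tensor_map_smul E F (Coh.toGlobal f a)
  rw [← e]
  exact h

theorem chiT_congr {k : Type u} [Field k] {Y : Scheme.{u}} [Y.Over (Spec (CommRingCat.of k))]
    [IsProper (Y ↘ Spec (CommRingCat.of k))] {E E' F F' : Y.Modules} (eE : E ≅ E') (eF : F ≅ F') :
    chiT (k := k) E F = chiT (k := k) E' F' :=
  CurveCohLib.euler_congr (k := k) ((DCoh.tensorBi.mapIso eE).app F ≪≫ (DCoh.tensorBi.obj E').mapIso eF)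

theorem chiT_const {X : Scheme.{u}} {R : Type u} [CommRing R] [IsDomain R] [IsDiscreteValuationRing R]
    (f : X ⟶ Spec (CommRingCat.of R)) [IsProper f] (ϖ : R) (hϖ : IsLocalRing.maximalIdeal R = Ideal.span {ϖ})
    {E F : X.Modules} (hE : FlatMod.IsFinLocFree E) (hF : Coh.IsCoh F) [Mono (tMap f F ϖ)]
    {Ω Ω' : Type u} [Field Ω] [Field Ω'] [Algebra R Ω] [Algebra R Ω']
    {Y Y' : Scheme.{u}} [Y.Over (Spec (CommRingCat.of Ω))] [Y'.Over (Spec (CommRingCat.of Ω'))]
    (iY : Y ⟶ X) (iY' : Y' ⟶ X)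
    (sq : IsPullback iY (Y ↘ Spec (CommRingCat.of Ω)) f (Spec.map (CommRingCat.ofHom (algebraMap R Ω))))
    (sq' : IsPullback iY' (Y' ↘ Spec (CommRingCat.of Ω')) f (Spec.map (CommRingCat.ofHom (algebraMap R Ω')))) :
    chiT (k := Ω) ((Scheme.Modules.pullback iY).obj E) ((Scheme.Modules.pullback iY).obj F) =
      chiT (k := Ω') ((Scheme.Modules.pullback iY').obj E) ((Scheme.Modules.pullback iY').obj F) := by
  haveI : IsProper (Y ↘ Spec (CommRingCat.of Ω)) := MorphismProperty.of_isPullback sq inferInstance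
  haveI : IsProper (Y' ↘ Spec (CommRingCat.of Ω')) := MorphismProperty.of_isPullback sq' inferInstance
  haveI := noetherian_total f
  haveI := mono_tMap_tensor f ϖ hE (F := F)
  obtain ⟨a⟩ := H23.PicMul.pull iY E F
  obtain ⟨a'⟩ := H23.PicMul.pull iY' E F
  exact (CurveCohLib.euler_congr (k := Ω) a).symm.trans
    ((euler_const f ϖ hϖ (CurveTensor.isCoh_tensor hE hF) iY iY' sq sq').trans
      (CurveCohLib.euler_congr (k := Ω') a'))

section bc

variable {R : Type u} [CommRing R] [IsDomain R] [IsDiscreteValuationRing R] {X : Scheme.{u}}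
  {f : X ⟶ Spec (CommRingCat.of R)} [IsProper f] {Xs : Scheme.{u}}
  [Xs.Over (Spec (CommRingCat.of κ[R]))] {i : Xs ⟶ X}
  (hsq : IsPullback i (Xs ↘ Spec (CommRingCat.of κ[R])) f (Spec.map (CommRingCat.ofHom (IsLocalRing.residue R))))
  [AlgebraicGeometry.IsReduced Xs]
  (hgi : ∀ (C : Set Xs) (hC : C ∈ irreducibleComponents (Xs : Type u)),
    GeometricallyIntegral (VecSt.subschι Xs C (isClosed_of_mem_irreducibleComponents C hC) ≫
      (Xs ↘ Spec (CommRingCat.of κ[R]))))
  {ϖ : R} (hϖ : IsLocalRing.maximalIdeal R = Ideal.span {ϖ})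
  {R' : Type u} [CommRing R'] [IsDomain R'] [IsDiscreteValuationRing R'] [Algebra R R'] [Module.Flat R R']
  (hϖ' : IsLocalRing.maximalIdeal R' = Ideal.span {algebraMap R R' ϖ})
  {X' : Scheme.{u}} {f' : X' ⟶ Spec (CommRingCat.of R')} {g : X' ⟶ X}
  (hpb : IsPullback g f' f (Spec.map (CommRingCat.ofHom (algebraMap R R'))))
  {J : X.Modules} {G : Xs.Modules} {π : (Scheme.Modules.pullback i).obj J ⟶ G} {F : X'.Modules}
  {p : (Scheme.Modules.pullback g).obj J ⟶ F}
  {τ : F ⟶ (Scheme.Modules.pullback g).obj ((Scheme.Modules.pushforward i).obj G)}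
  (L : IsLim i ϖ f' g π F p τ)
  {Ω : Type u} [Field Ω] [Algebra R' Ω] (hΩ : Function.Injective (algebraMap R' Ω))
  {Y : Scheme.{u}} [Y.Over (Spec (CommRingCat.of Ω))] {iY : Y ⟶ X'}
  (sq : IsPullback iY (Y ↘ Spec (CommRingCat.of Ω)) f' (Spec.map (CommRingCat.ofHom (algebraMap R' Ω))))

include hsq hgi hϖ hϖ' hpb L sq in
theorem IsLim.chiT_eq {E : X.Modules} {r : ℕ} (hE : FlatMod.IsFinLocFreeOfRank r E) (hG : Coh.IsCoh G) :
    chiT (k := Ω) ((Scheme.Modules.pullback iY).obj ((Scheme.Modules.pullback g).obj E))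
        ((Scheme.Modules.pullback iY).obj F) =
      chiT (k := κ[R]) ((Scheme.Modules.pullback i).obj E) G := by
  haveI := proper_bc f f' g hpb
  haveI := L.short.mono_f
  haveI := noetherian_total f
  haveI := isClosedImmersion_i f i hsq ϖ hϖ
  let Ω' := AlgebraicClosure κ[R']
  letI : Algebra R' Ω' := ((algebraMap κ[R'] Ω').comp (IsLocalRing.residue R')).toAlgebra
  have hz : algebraMap R' Ω' (algebraMap R R' ϖ) = 0 := by
    show algebraMap κ[R'] Ω' (IsLocalRing.residue R' (algebraMap R R' ϖ)) = 0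
    rw [(IsLocalRing.residue_eq_zero_iff _).2 (hϖ' ▸ Ideal.mem_span_singleton_self _), map_zero]
  let ψ : R →+* Ω' := (algebraMap R' Ω').comp (algebraMap R R')
  letI : Algebra κ[R] Ω' := (Ideal.Quotient.lift (IsLocalRing.maximalIdeal R) ψ fun a ha => by
    rw [hϖ, Ideal.mem_span_singleton] at ha
    obtain ⟨c, rfl⟩ := ha
    rw [map_mul, show ψ ϖ = 0 from hz, zero_mul]).toAlgebra
  let t' := Spec.map (CommRingCat.ofHom (algebraMap R' Ω'))
  let Y' := pullback f' t'
  letI : Y'.Over (Spec (CommRingCat.of Ω')) := ⟨pullback.snd _ _⟩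
  have sq' : IsPullback (pullback.fst f' t') (Y' ↘ Spec (CommRingCat.of Ω')) f' t' := IsPullback.of_hasPullback _ _
  have hc : t' ≫ Spec.map (CommRingCat.ofHom (algebraMap R R')) =
      Spec.map (CommRingCat.ofHom (algebraMap κ[R] Ω')) ≫ Spec.map (CommRingCat.ofHom (IsLocalRing.residue R)) := by
    rw [← Spec.map_comp, ← Spec.map_comp]
    rfl
  obtain ⟨D, hD⟩ := exists_ext f hsq hgi Ω' Y' (pullback.fst f' t' ≫ g) (hc ▸ sq'.paste_horiz hpb)
  haveI := D.proper'
  have hE' := KRR7.isFinLocFreeOfRank_pullback g hE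
  rw [chiT_const f' _ hϖ' (finLocFree_of_rank hE') L.coh iY (pullback.fst f' t') sq sq']
  haveI := isIso_pullback_mod f' _ τ L.w L.short hz (pullback.fst f' t') _ sq'
  have hPG : Coh.IsCoh ((Scheme.Modules.pushforward i).obj G) := QCoh.isCoh_pushforward_finite i hG
  haveI := KZ.ClosedDev.isIso_counit i hPG.1
  let down : ∀ N : X.Modules, (Scheme.Modules.pullback (pullback.fst f' t')).obj ((Scheme.Modules.pullback g).obj N) ≅
      (Scheme.Modules.pullback D.h).obj ((Scheme.Modules.pullback i).obj N) := fun N =>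
    compIso (pullback.fst f' t') g N ≪≫ (Scheme.Modules.pullbackCongr hD.symm).app N ≪≫ (compIso D.h i N).symm
  rw [chiT_congr (down E) (asIso ((Scheme.Modules.pullback (pullback.fst f' t')).map τ) ≪≫ down _ ≪≫
    (Scheme.Modules.pullback D.h).mapIso (asIso ((Scheme.Modules.pullbackPushforwardAdjunction i).counit.app G)))]
  exact D.chiT_pullback (KRR7.isFinLocFreeOfRank_pullback i hE) hG

include hsq hϖ hϖ' hpb hΩ sq L in
/-- Two limits that split a simple module on the generic fibre: impossible. -/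
theorem IsLim.not_isSimple [Surjective g] (hJ : Coh.IsCoh J) (hJf : FlatMod.IsFlatOver f J) {G' : Xs.Modules}
    {π' : (Scheme.Modules.pullback i).obj J ⟶ G'} {F' : X'.Modules}
    {p' : (Scheme.Modules.pullback g).obj J ⟶ F'}
    {τ' : F' ⟶ (Scheme.Modules.pullback g).obj ((Scheme.Modules.pushforward i).obj G')}
    (L' : IsLim i ϖ f' g π' F' p' τ') (hG : Coh.IsCoh G) (hG' : Coh.IsCoh G') (hne : (CohB1.support G).Nonempty)
    (hne' : (CohB1.support G').Nonempty) [IsIso (biprod.lift π π')] :
    ¬ TFOne.IsSimple Y Ω (Y ↘ Spec (CommRingCat.of Ω))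
      ((Scheme.Modules.pullback iY).obj ((Scheme.Modules.pullback g).obj J)) := fun hsimp => by
  haveI := proper_bc f f' g hpb
  haveI := noetherian_total f
  haveI := noetherian_total f'
  haveI := isClosedImmersion_i f i hsq ϖ hϖ
  let PS := Scheme.Modules.pushforward i
  let PG := Scheme.Modules.pullback g
  let PY := Scheme.Modules.pullback iY
  haveI := (Scheme.Modules.pullbackPushforwardAdjunction g).left_adjoint_additive
  haveI := (Scheme.Modules.pullbackPushforwardAdjunction iY).left_adjoint_additive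
  haveI := (Scheme.Modules.pullbackPushforwardAdjunction i).right_adjoint_additive
  haveI := isIso_lift_map PS π π'
  haveI := isIso_lift_map PG (PS.map π) (PS.map π')
  have L₁ := isLim_self f i hsq ϖ hϖ f' g hpb hJ hJf
  haveI := L₁.short.epi_g
  haveI := L.short.mono_f
  haveI := L'.short.mono_f
  let q := biprod.lift p p'
  let σ := biprod.map τ τ'
  have hqσ : q ≫ σ = PG.map ((Scheme.Modules.pullbackPushforwardAdjunction i).unit.app J) ≫
      biprod.lift (PG.map (PS.map π)) (PG.map (PS.map π')) := by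
    refine biprod.hom_ext _ _ ?_ ?_
    · simp only [q, σ, Category.assoc, biprod.map_fst, biprod.lift_fst, biprod.lift_fst_assoc, L.fac, qMap,
        Functor.map_comp]
      exact congrArg _ (biprod.lift_fst _ _).symm
    · simp only [q, σ, Category.assoc, biprod.map_snd, biprod.lift_snd, biprod.lift_snd_assoc, L'.fac, qMap,
        Functor.map_comp]
      exact congrArg _ (biprod.lift_snd _ _).symm
  have hB : Coh.IsCoh (F ⊞ F' : X'.Modules) := KZ.isCoh_biprod L.coh L'.coh
  have htB : ∀ {A : X'.Modules} (a : A ⟶ F ⊞ F'), a ≫ tMap f' _ (algebraMap R R' ϖ) = 0 → a = 0 := fun a h => by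
    refine biprod.hom_ext _ _ ?_ ?_
    · rw [zero_comp, ← cancel_mono (tMap f' F (algebraMap R R' ϖ)), zero_comp, Category.assoc, tMap_comm,
        reassoc_of% h, zero_comp]
    · rw [zero_comp, ← cancel_mono (tMap f' F' (algebraMap R R' ϖ)), zero_comp, Category.assoc, tMap_comm,
        reassoc_of% h, zero_comp]
  haveI : Mono (tMap f' (F ⊞ F' : X'.Modules) (algebraMap R R' ϖ)) := Preadditive.mono_of_cancel_zero _ htB
  haveI : Epi (q ≫ σ) := by rw [hqσ]; infer_instance
  haveI : Epi q := epi_of_epi_mod f' _ hϖ' L₁.coh hB q σ fun {B} v hv => by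
    have h1 : tMap f' F (algebraMap R R' ϖ) ≫ biprod.inl ≫ v = 0 := by
      rw [← reassoc_of% (tMap_comm f' (biprod.inl : F ⟶ F ⊞ F') (algebraMap R R' ϖ)), hv, comp_zero]
    have h2 : tMap f' F' (algebraMap R R' ϖ) ≫ biprod.inr ≫ v = 0 := by
      rw [← reassoc_of% (tMap_comm f' (biprod.inr : F' ⟶ F ⊞ F') (algebraMap R R' ϖ)), hv, comp_zero]
    haveI := L.short.epi_g
    haveI := L'.short.epi_g
    refine ⟨biprod.desc (L.short.exact.desc _ h1) (L'.short.exact.desc _ h2), ?_⟩
    refine biprod.hom_ext' _ _ ?_ ?_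
    · simp only [σ, biprod.inl_map_assoc, biprod.inl_desc]
      exact L.short.exact.g_desc _ h1
    · simp only [σ, biprod.inr_map_assoc, biprod.inr_desc]
      exact L'.short.exact.g_desc _ h2
  have hw : tMap f' (PG.obj J) (algebraMap R R' ϖ) ≫ q ≫ σ = 0 := by rw [hqσ, reassoc_of% L₁.w, zero_comp]
  haveI : Mono q := mono_of_exact_mod f' _ hϖ' L₁.coh hB q σ hw (ShortComplex.exact_of_iso (S₁ := ShortComplex.mk _ _ L₁.w)
    (ShortComplex.isoMk (Iso.refl _) (Iso.refl _) (asIso (biprod.lift (PG.map (PS.map π)) (PG.map (PS.map π'))))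
      (by simp) (by simpa using hqσ)) L₁.short.exact)
  haveI : IsIso q := isIso_of_mono_of_epi q
  have hp : inv q ≫ p = biprod.fst := by rw [IsIso.inv_comp_eq]; exact (biprod.lift_fst _ _).symm
  have hp' : inv q ≫ p' = biprod.snd := by rw [IsIso.inv_comp_eq]; exact (biprod.lift_snd _ _).symm
  obtain ⟨c, hc⟩ := hsimp.2 (PY.map (p ≫ biprod.inl ≫ inv q))
  have hep : (p ≫ biprod.inl ≫ inv q) ≫ p = p := by simp [hp]
  haveI := L.epi
  by_cases hc0 : c = 0
  · haveI : PY.IsLeftAdjoint := (Scheme.Modules.pullbackPushforwardAdjunction iY).isLeftAdjoint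
    haveI : Epi (PY.map p) := inferInstance
    refine L.not_isZero_generic f hϖ' hpb (QCoh.isCoh_pushforward_finite i hG) hne hΩ sq
      (IsZero.of_epi_eq_zero (PY.map p) ?_)
    rw [← hep, PY.map_comp, hc, hc0, FFun.smulMod_zero, zero_comp]
  · have hr : PY.map (biprod.inr ≫ inv q) = 0 := by
      have h1 : PY.map (biprod.inr ≫ inv q) ≫ PY.map (p ≫ biprod.inl ≫ inv q) = 0 := by
        rw [← PY.map_comp]
        simp [reassoc_of% hp]
      rw [hc, comp_smulMod] at h1
      have h2 := congrArg (fun φ => Formal.smulMod Ω (PY.obj F') c⁻¹ ≫ φ) h1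
      simp only [comp_zero] at h2
      rwa [← Category.assoc, ← FFun.smulMod_mul, mul_inv_cancel₀ hc0, FFun.smulMod_one, Category.id_comp] at h2
    refine L'.not_isZero_generic f hϖ' hpb (QCoh.isCoh_pushforward_finite i hG') hne' hΩ sq
      ((IsZero.iff_id_eq_zero _).2 ?_)
    rw [← PY.map_id, show 𝟙 F' = (biprod.inr ≫ inv q) ≫ p' by simp [hp'], PY.map_comp, hr, zero_comp]

include hϖ' hpb hsq hϖ L in
/-- The kernel of a limit has no stalk where the kernel of its reduction has none. -/
theorem IsLim.kernel_stalk (hJ : Coh.IsCoh J) (hJf : FlatMod.IsFlatOver f J) (hG : Coh.IsCoh G) {x : X'}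
    (hx : algebraMap R R' ϖ ∈ (f' x).asIdeal)
    (hK : g x ∉ CohB1.support ((Scheme.Modules.pushforward i).obj (kernel π))) :
    Subsingleton ((kernel p).presheaf.stalk x) := by
  haveI := proper_bc f f' g hpb
  haveI := noetherian_total f
  haveI := noetherian_total f'
  haveI := isClosedImmersion_i f i hsq ϖ hϖ
  let PS := Scheme.Modules.pushforward i
  let PG := Scheme.Modules.pullback g
  haveI := flat_bc f f' g hpb
  haveI := RGLib.Lim8.preservesFiniteLimits_pullback g
  haveI := (Scheme.Modules.pullbackPushforwardAdjunction g).left_adjoint_additive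
  haveI := (Scheme.Modules.pullbackPushforwardAdjunction i).right_adjoint_additive
  haveI : PreservesLimitsOfSize.{0, 0} PS := (Scheme.Modules.pullbackPushforwardAdjunction i).rightAdjoint_preservesLimits
  have L₁ := isLim_self f i hsq ϖ hϖ f' g hpb hJ hJf
  haveI := L.short.mono_f
  let S : ShortComplex Xs.Modules := ShortComplex.mk (kernel.ι π) π (kernel.condition π)
  have hKex : ((S.map PS).map PG).Exact := by
    have h1 : (S.map PS).Exact := (ShortComplex.exact_kernel π).map_of_mono_of_preservesKernel PS inferInstance inferInstance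
    haveI : Mono (S.map PS).f := by
      show Mono (PS.map (kernel.ι π)); infer_instance
    exact h1.map_of_mono_of_preservesKernel PG inferInstance inferInstance
  haveI : IsProper (Xs ↘ Spec (CommRingCat.of κ[R])) := proper_special f hsq
  haveI := CurveCohLib.isNoetherian_of_proper (k := κ[R]) (X := Xs)
  have hKc : Coh.IsCoh (PS.obj (kernel π)) :=
    QCoh.isCoh_pushforward_finite i (QCoh.isCoh_kernel (KZ.ClosedDev.isCoh_pull i hJ) hG π)
  have hsub : Subsingleton ((PG.obj (PS.obj (kernel π))).presheaf.stalk x) :=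
    not_not.1 fun h => hK ((QCoh.support_pullback g hKc.1 hKc.2).le h)
  have e1 := (KFlatLib.exact_iff_stalk _).1 hKex x
  rw [ShortComplex.ShortExact.moduleCat_exact_iff_function_exact] at e1
  have e2 := (KFlatLib.exact_iff_stalk _).1 L₁.short.exact x
  rw [ShortComplex.ShortExact.moduleCat_exact_iff_function_exact] at e2
  have e3 := (KFlatLib.exact_iff_stalk _).1 (ShortComplex.exact_kernel p) x
  rw [ShortComplex.ShortExact.moduleCat_exact_iff_function_exact] at e3
  let r := X'.presheaf.germ ⊤ x trivial (Coh.toGlobal f' (algebraMap R R' ϖ))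
  have hdiv : ∀ v : (kernel p).presheaf.stalk x, ∃ w, v = r • w := fun v => by
    let a := sl (kernel.ι p) x v
    have hpa : sl p x a = 0 := by rw [sl_sl_comp (kernel.condition p), sl_zero]; rfl
    let u := sl (PG.map ((Scheme.Modules.pullbackPushforwardAdjunction i).unit.app J)) x a
    have hu : sl (PG.map (PS.map π)) x u = 0 := by
      refine (sl_sl_comp (PG.map_comp ((Scheme.Modules.pullbackPushforwardAdjunction i).unit.app J) (PS.map π)).symm x a).trans ?_
      rw [show PG.map ((Scheme.Modules.pullbackPushforwardAdjunction i).unit.app J ≫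
        PS.map π) = p ≫ τ from L.fac.symm, sl_comp_apply]
      exact (congrArg (sl τ x) hpa).trans (map_zero _)
    have hu0 : u = 0 := by
      obtain ⟨w, hw⟩ := (e1 u).1 hu
      rw [@Subsingleton.elim _ hsub w 0] at hw
      exact hw.symm.trans (map_zero _)
    obtain ⟨a1, ha1⟩ := (e2 a).1 hu0
    have ha1' : sl (tMap f' (PG.obj J) (algebraMap R R' ϖ)) x a1 = a := ha1
    have h1 : sl p x a1 = 0 := by
      refine (injective_iff_map_eq_zero _).1 (sl_injective (tMap f' F (algebraMap R R' ϖ)) x) _ ?_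
      rw [sl_sl_comp (tMap_comm f' p (algebraMap R R' ϖ)), sl_comp_apply, ha1', hpa]
    obtain ⟨w, hw⟩ := (e3 a1).1 h1
    refine ⟨w, sl_injective (kernel.ι p) x ?_⟩
    rw [map_smul]
    show a = _
    rw [← ha1', sl_tMap]
    exact congrArg (fun t => r • t) hw.symm
  have hKp : Coh.IsCoh (kernel p) := QCoh.isCoh_kernel L₁.coh L.coh p
  haveI := QCoh.finite_stalk_of_isFT hKp.1 hKp.2 x
  have hr : r ∈ IsLocalRing.maximalIdeal (X'.presheaf.stalk x) := fun hu => by
    refine notMem_of_mem_basicOpen f' _ (U := ⊤) (x := x) ?_ hx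
    rw [Scheme.mem_basicOpen _ _ _ (show x ∈ (⊤ : X'.Opens) from trivial), tSec, TopCat.Presheaf.germ_res_apply]
    exact hu
  have hbot := Submodule.eq_bot_of_le_smul_of_le_jacobson_bot (IsLocalRing.maximalIdeal (X'.presheaf.stalk x))
    (⊤ : Submodule (X'.presheaf.stalk x) ((kernel p).presheaf.stalk x)) Module.Finite.fg_top (fun v _ => by
      obtain ⟨w, rfl⟩ := hdiv v
      exact Submodule.smul_mem_smul hr Submodule.mem_top) (IsLocalRing.maximalIdeal_le_jacobson ⊥)
  exact subsingleton_of_forall_eq 0 fun v => (Submodule.mem_bot _).1 (hbot.le Submodule.mem_top)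

include hϖ' hpb hsq hϖ L in
/-- If a limit is injective on the generic fibre, its reduction was injective. -/
theorem IsLim.mono_of_mono [Surjective g] (hJ : Coh.IsCoh J) (hJf : FlatMod.IsFlatOver f J) (hG : Coh.IsCoh G)
    [Mono p] : Mono π := by
  haveI := proper_bc f f' g hpb
  haveI := noetherian_total f
  haveI := noetherian_total f'
  haveI := isClosedImmersion_i f i hsq ϖ hϖ
  let PS := Scheme.Modules.pushforward i
  let PG := Scheme.Modules.pullback g
  haveI := flat_bc f f' g hpb
  haveI := (Scheme.Modules.pullbackPushforwardAdjunction g).left_adjoint_additive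
  haveI := (Scheme.Modules.pullbackPushforwardAdjunction i).right_adjoint_additive
  have L₁ := isLim_self f i hsq ϖ hϖ f' g hpb hJ hJf
  haveI := L₁.short.epi_g
  haveI := L.epi
  haveI : IsIso p := isIso_of_mono_of_epi p
  haveI : Mono (PG.map (PS.map π)) := Preadditive.mono_of_cancel_zero _ fun {A} u hu => by
    obtain ⟨A', e, he, v, hv⟩ := surjective_up_to_refinements_of_epi
      (PG.map ((Scheme.Modules.pullbackPushforwardAdjunction i).unit.app J)) u
    have h1 : (v ≫ p) ≫ τ = 0 := by
      rw [Category.assoc, L.fac, qMap, Functor.map_comp, ← reassoc_of% hv, hu, comp_zero]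
    obtain ⟨A'', e', he', w, hw⟩ := L.short.exact.exact_up_to_refinements (v ≫ p) h1
    change e' ≫ v ≫ p = w ≫ tMap f' F (algebraMap R R' ϖ) at hw
    have h2 : e' ≫ v = (w ≫ inv p) ≫ tMap f' (PG.obj J) (algebraMap R R' ϖ) := by
      rw [← cancel_mono p, Category.assoc, hw, Category.assoc, Category.assoc, ← tMap_comm, IsIso.inv_hom_id_assoc]
    haveI := he
    haveI := he'
    rw [← cancel_epi e, ← cancel_epi e', comp_zero, comp_zero, hv, reassoc_of% h2, L₁.w, comp_zero]
    exact comp_zero
  haveI : IsProper (Xs ↘ Spec (CommRingCat.of κ[R])) := proper_special f hsq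
  haveI := CurveCohLib.isNoetherian_of_proper (k := κ[R]) (X := Xs)
  have hKπ := QCoh.isCoh_kernel (KZ.ClosedDev.isCoh_pull i hJ) hG π
  have h0 : PG.map (PS.map (kernel.ι π)) = 0 := by
    rw [← cancel_mono (PG.map (PS.map π)), ← PG.map_comp, ← PS.map_comp, kernel.condition, PS.map_zero,
      PG.map_zero, zero_comp]
  haveI := RGLib.Lim8.preservesFiniteLimits_pullback g
  haveI : PreservesLimitsOfSize.{0, 0} PS := (Scheme.Modules.pullbackPushforwardAdjunction i).rightAdjoint_preservesLimits
  have hz : IsZero (PG.obj (PS.obj (kernel π))) := IsZero.of_mono_eq_zero (PG.map (PS.map (kernel.ι π))) h0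
  refine Preadditive.mono_of_isZero_kernel π (CurveCohLib.isZero_of_subsingleton_stalks fun z => ?_)
  by_contra h
  exact not_isZero_push_bc (g := g) (QCoh.isCoh_pushforward_finite i hKπ) ⟨z, h⟩ hz

end bc

end Groth.Agent.TFGeo7

end
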