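import Groth.Agent.TFGeo7.DetPull
import Groth.Agent.TFQuot7.Push
import Groth.Agent.GeomField.Reduced
import Groth.Agent.GeomField.Fibre
import Groth.Agent.CurveBC.Coh
import Groth.Agent.KZ.ClosedDev
import Groth.Agent.ZClosLib.CohDescent
import Mathlib.AlgebraicGeometry.Geometrically.Integral

/-! A reduced curve with geometrically integral components, after extending the base field. -/

set_option autoImplicit false
set_option maxHeartbeats 400000
set_option backward.isDefEq.respectTransparency false
set_option backward.isDefEq.respectTransparency.types false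
set_option linter.unusedSectionVars false
set_option linter.style.haveILetI false

universe u

open CategoryTheory CategoryTheory.Limits AlgebraicGeometry TopologicalSpace Opposite

noncomputable section

namespace Groth.Agent.TFGeo7

open Groth.Agent Groth.Agent.TFQuot7 CycK

/-- The hypotheses: a proper reduced scheme over a field with geometrically integral components, and a base change. -/
structure Ext (k K : Type u) [Field k] [Field K] [Algebra k K] (X Y : Scheme.{u})
    [X.Over (Spec (CommRingCat.of k))] [Y.Over (Spec (CommRingCat.of K))] where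
  /-- the projection -/
  h : Y ⟶ X
  sq : IsPullback h (Y ↘ Spec (CommRingCat.of K)) (X ↘ Spec (CommRingCat.of k))
    (Spec.map (CommRingCat.ofHom (algebraMap k K)))
  proper : IsProper (X ↘ Spec (CommRingCat.of k))
  red : AlgebraicGeometry.IsReduced X
  hgi : ∀ (C : Set X) (hC : C ∈ irreducibleComponents (X : Type u)),
    GeometricallyIntegral (VecSt.subschι X C (isClosed_of_mem_irreducibleComponents C hC) ≫
      (X ↘ Spec (CommRingCat.of k)))

namespace Ext

variable {k K : Type u} [Field k] [Field K] [Algebra k K] {X Y : Scheme.{u}}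
  [X.Over (Spec (CommRingCat.of k))] [Y.Over (Spec (CommRingCat.of K))] (D : Ext k K X Y)

include D

theorem noetherian : AlgebraicGeometry.IsNoetherian X :=
  haveI := D.proper
  CurveCohLib.isNoetherian_of_proper (k := k) (X := X)

theorem proper' : IsProper (Y ↘ Spec (CommRingCat.of K)) :=
  haveI := D.proper
  MorphismProperty.of_isPullback D.sq inferInstance

theorem noetherian' : AlgebraicGeometry.IsNoetherian Y :=
  haveI := D.proper'
  CurveCohLib.isNoetherian_of_proper (k := K) (X := Y)

theorem flat : Flat D.h :=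
  MorphismProperty.of_isPullback D.sq.flip (GrpSchLib.flat_spec_map_field (algebraMap k K))

theorem affine : IsAffineHom D.h := MorphismProperty.of_isPullback D.sq.flip inferInstance

theorem surjective : Surjective D.h := by
  haveI : Surjective (Spec.map (CommRingCat.ofHom (algebraMap k K))) :=
    ⟨fun x => ⟨Classical.arbitrary _, Subsingleton.elim _ _⟩⟩
  exact MorphismProperty.of_isPullback D.sq.flip inferInstance

attribute [local instance] Curv2.stalkAlgebra in
theorem geometricallyReduced : GeometricallyReduced (X ↘ Spec (CommRingCat.of k)) := by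
  haveI := D.red
  haveI := D.noetherian
  refine GeomField.geometricallyReduced_iff.2 fun x => GeomField.isGeomReducedAt_of_generic x fun η _ hη => ?_
  have hC : closure ({η} : Set X) ∈ irreducibleComponents (X : Type u) := GeomField.genericPoint_of_maximal hη
  have hc := isClosed_of_mem_irreducibleComponents _ hC
  haveI := D.hgi _ hC
  let ι := VecSt.subschι X (closure {η}) hc
  let S := VecSt.subsch X (closure {η}) hc
  letI : S.Over (Spec (CommRingCat.of k)) := ⟨ι ≫ (X ↘ Spec (CommRingCat.of k))⟩
  haveI : GeometricallyReduced (S ↘ Spec (CommRingCat.of k)) :=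
    inferInstanceAs (GeometricallyReduced (ι ≫ (X ↘ Spec (CommRingCat.of k))))
  haveI : AlgebraicGeometry.IsIntegral S :=
    GeometricallyIntegral.isIntegral_of_subsingleton (ι ≫ (X ↘ Spec (CommRingCat.of k)))
  have hgen : ι (genericPoint S) = η := by
    have h2 := (genericPoint_spec S).image ι.continuous
    rw [Set.image_univ, range_subschι hc, hc.closure_eq] at h2
    exact h2.eq (isGenericPoint_closure)
  have hf : IsField (X.presheaf.stalk (ι (genericPoint S))) := mem_genericPoints_iff.1 (hgen.symm ▸ hC)
  rw [← hgen]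
  rw [GeomField.isGeomReducedAt_iff]
  have hS := GeomField.isGeomReducedAt_iff (k := k) (genericPoint S) |>.1
    (GeomField.geometricallyReduced_iff.1 inferInstance (genericPoint S))
  haveI := hS
  letI := hf.toField
  let φ : X.presheaf.stalk (ι (genericPoint S)) →ₐ[k] S.presheaf.stalk (genericPoint S) :=
    { (ι.stalkMap (genericPoint S)).hom with
      commutes' := fun c => Scheme.Hom.germ_stalkMap_apply ι ⊤ _ trivial _ }
  exact Algebra.IsGeometricallyReduced.of_injective φ (RingHom.injective φ.toRingHom)

theorem reduced : AlgebraicGeometry.IsReduced Y := by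
  haveI := D.geometricallyReduced
  haveI : AlgebraicGeometry.IsReduced (pullback (X ↘ Spec (CommRingCat.of k))
      (Spec.map (CommRingCat.ofHom (algebraMap k K)))) :=
    pullback_of_geometrically (GeometricallyReduced.geometrically_isReduced) K _
  exact isReduced_of_isOpenImmersion D.sq.isoPullback.hom

theorem genMap : GeneralizingMap D.h :=
  haveI := D.flat
  Flat.generalizingMap _

theorem generic_map {y : Y} (hy : y ∈ genericPoints Y) : D.h y ∈ genericPoints X := by
  refine mem_genericPoints_of_maximal fun η hη => ?_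
  obtain ⟨y', hy', rfl⟩ := D.genMap hη
  haveI := D.reduced
  rw [TFCurvLib.eq_of_specializes_of_isField (mem_genericPoints_iff.1 hy) hy']

theorem exists_generic_over {η : X} (hη : η ∈ genericPoints X) : ∃ y ∈ genericPoints Y, D.h y = η := by
  obtain ⟨z, rfl⟩ := D.surjective.surj η
  obtain ⟨y, hy, hcl, -⟩ := exists_generic_of_component (irreducibleComponent_mem_irreducibleComponents z)
  refine ⟨y, hy, ?_⟩
  haveI := D.red
  exact TFCurvLib.eq_of_specializes_of_isField (mem_genericPoints_iff.1 hη)
    ((specializes_iff_mem_closure.2 (by rw [hcl]; exact mem_irreducibleComponent)).map D.h.continuous)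

theorem generic_inj {y y' : Y} (hy : y ∈ genericPoints Y) (hy' : y' ∈ genericPoints Y) (he : D.h y = D.h y') :
    y = y' := by
  have hC : closure ({D.h y} : Set X) ∈ irreducibleComponents (X : Type u) := D.generic_map hy
  have hc := isClosed_of_mem_irreducibleComponents _ hC
  haveI := D.hgi _ hC
  let ι := VecSt.subschι X (closure {D.h y}) hc
  haveI : AlgebraicGeometry.IsIntegral (pullback ι D.h) :=
    GeometricallyIntegral.geometrically_isIntegral (Spec.map (CommRingCat.ofHom (algebraMap k K)))
      (pullback.fst ι D.h) (pullback.snd ι D.h ≫ (Y ↘ Spec (CommRingCat.of K)))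
      ((IsPullback.of_hasPullback ι D.h).paste_vert D.sq)
  have hr : Set.range (pullback.snd ι D.h) = D.h ⁻¹' closure {D.h y} := by
    rw [Scheme.Pullback.range_snd, range_subschι hc]
  have h2 := (genericPoint_spec ↥(pullback ι D.h)).image (pullback.snd ι D.h).continuous
  rw [Set.image_univ, hr, (hc.preimage D.h.continuous).closure_eq] at h2
  haveI := D.reduced
  have key : ∀ {z : Y}, z ∈ genericPoints Y → D.h z = D.h y →
      pullback.snd ι D.h (genericPoint ↥(pullback ι D.h)) = z := fun {z} hz hze =>
    TFCurvLib.eq_of_specializes_of_isField (mem_genericPoints_iff.1 hz)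
      (h2.specializes (show D.h z ∈ closure {D.h y} from subset_closure hze))
  rw [← key hy rfl, ← key hy' he.symm]

theorem mem_preimage_generic {T : Set X} (hT : IsUC T) {z : Y} (hz : D.h z ∈ T) :
    ∃ y ∈ genericPoints Y, D.h y ∈ T ∧ y ⤳ z := by
  obtain ⟨S, hS, rfl⟩ := hT
  obtain ⟨C, hC, hzC⟩ := hz
  obtain ⟨g, hg, hcl, hgC⟩ := exists_generic_of_component (hS hC)
  obtain ⟨y', hy', hy'g⟩ := D.genMap
    (show g ⤳ D.h z from specializes_iff_mem_closure.2 (by rw [hcl]; exact hzC))
  obtain ⟨y, hy, hycl, -⟩ := exists_generic_of_component (irreducibleComponent_mem_irreducibleComponents y')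
  have hyy : y ⤳ y' := specializes_iff_mem_closure.2 (by rw [hycl]; exact mem_irreducibleComponent)
  refine ⟨y, hy, ⟨C, hC, ?_⟩, hyy.trans hy'⟩
  haveI := D.red
  have hs : D.h y ⤳ g := by rw [← hy'g]; exact hyy.map D.h.continuous
  rw [TFCurvLib.eq_of_specializes_of_isField (mem_genericPoints_iff.1 hg) hs]
  exact hgC

theorem preimage_isUC {T : Set X} (hT : IsUC T) : IsUC (D.h ⁻¹' T) := by
  haveI := D.noetherian
  refine ⟨{C | C ∈ irreducibleComponents (Y : Type u) ∧ C ⊆ D.h ⁻¹' T}, fun C hC => hC.1, ?_⟩
  refine Set.Subset.antisymm (fun z hz => ?_) (Set.sUnion_subset fun C hC => hC.2)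
  obtain ⟨y, hy, hyT, hyz⟩ := D.mem_preimage_generic hT hz
  exact ⟨closure {y}, ⟨hy, closure_subset_of_generic (hT.isClosed.preimage D.h.continuous) hyT⟩,
    specializes_iff_mem_closure.1 hyz⟩

theorem exists_eq_preimage {Z : Set Y} (hZ : IsUC Z) : ∃ T : Set X, IsUC T ∧ Z = D.h ⁻¹' T := by
  haveI := D.noetherian
  haveI := D.noetherian'
  haveI := D.reduced
  haveI := D.red
  refine ⟨⋃₀ {C | C ∈ irreducibleComponents (X : Type u) ∧ ∃ y ∈ genericPoints Y, y ∈ Z ∧ closure {D.h y} = C},
    isUC_sUnion _, hZ.ext (D.preimage_isUC (isUC_sUnion _)) fun y hy => ⟨fun h => ?_, fun h => ?_⟩⟩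
  · exact ⟨closure {D.h y}, ⟨D.generic_map hy, y, hy, h, rfl⟩, subset_closure rfl⟩
  · obtain ⟨C, ⟨hC, y', hy', hy'Z, rfl⟩, hyC⟩ := h
    have he : D.h y = D.h y' := (TFCurvLib.eq_of_specializes_of_isField
      (mem_genericPoints_iff.1 (D.generic_map hy)) (specializes_iff_mem_closure.2 hyC)).symm
    rw [D.generic_inj hy hy' he]; exact hy'Z

theorem eq_univ_of_preimage {T : Set X} (h : D.h ⁻¹' T = Set.univ) : T = Set.univ := by
  refine Set.eq_univ_of_forall fun x => ?_
  obtain ⟨z, rfl⟩ := D.surjective.surj x
  exact h.ge (Set.mem_univ z)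

theorem isQuotOn_pullback {M G : X.Modules} {T : Set X} {π : M ⟶ G} (hG : TFOne.IsQuotOn X M T G π) :
    TFOne.IsQuotOn Y ((Scheme.Modules.pullback D.h).obj M) (D.h ⁻¹' T) ((Scheme.Modules.pullback D.h).obj G)
      ((Scheme.Modules.pullback D.h).map π) := by
  haveI := D.noetherian
  haveI := D.noetherian'
  haveI := D.reduced
  haveI := D.red
  haveI := D.flat
  haveI := D.affine
  haveI := hG.1
  refine ⟨inferInstance, ZClosLib.isCoh_pullback D.h hG.2.1, isTorsionFree_of_det (QCoh.isQCoh_pullback _ hG.2.1.1)
    (det_pullback D.h hG.2.1 (quot_det hG)), ?_⟩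
  rw [QCoh.support_pullback D.h hG.2.1.1 hG.2.1.2, hG.2.2.2]

theorem euler_pullback {M : X.Modules} (hM : Coh.IsQCoh M) :
    Curv2.euler K Y ((Scheme.Modules.pullback D.h).obj M) = Curv2.euler k X M := by
  haveI := D.noetherian
  exact CurveBC.euler_eq k K D.h D.sq M hM

end Ext

end Groth.Agent.TFGeo7

end
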