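import Groth.Agent.TFGeo7.Hat
import Groth.Agent.S0435
import Groth.Agent.S4921
import Groth.Agent.S9777
import Groth.Agent.HTopAwn.PtFun

/-! The geometric fibres of the family, and the completion of the base. -/

set_option autoImplicit false
set_option maxHeartbeats 400000
set_option backward.isDefEq.respectTransparency false
set_option backward.isDefEq.respectTransparency.types false
set_option linter.unusedSectionVars false
set_option linter.style.haveILetI false

universe u

open CategoryTheory CategoryTheory.Limits AlgebraicGeometry TopologicalSpace Opposite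

noncomputable section

namespace Groth.Agent.TFGeo7

open Groth.Agent Groth.Agent.TFQuot7 CycK

variable {R : Type u} [CommRing R] [IsDomain R] [IsDiscreteValuationRing R] {X : Scheme.{u}}
  (f : X ⟶ Spec (CommRingCat.of R)) [Flat f] [IsProper f] {Xs : Scheme.{u}}
  [Xs.Over (Spec (CommRingCat.of (IsLocalRing.ResidueField R)))] {i : Xs ⟶ X}
  (hsq : IsPullback i (Xs ↘ Spec (CommRingCat.of (IsLocalRing.ResidueField R))) f
    (Spec.map (CommRingCat.ofHom (IsLocalRing.residue R))))
  [AlgebraicGeometry.IsReduced Xs]
  (hgi : ∀ (C : Set Xs) (hC : C ∈ irreducibleComponents (Xs : Type u)),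
    GeometricallyIntegral (VecSt.subschι Xs C (isClosed_of_mem_irreducibleComponents C hC) ≫
      (Xs ↘ Spec (CommRingCat.of (IsLocalRing.ResidueField R)))))
  (hdim : topologicalKrullDim Xs ≤ (1 : ℕ))

include hsq hgi hdim in
theorem closedFibre_props : GeometricallyReduced (f.fiberToSpecResidueField (IsLocalRing.closedPoint R)) ∧
    topologicalKrullDim ↥(f.fiber (IsLocalRing.closedPoint R)) ≤ (1 : ℕ) := by
  let S := Spec (CommRingCat.of R)
  let s : S := IsLocalRing.closedPoint R
  obtain ⟨φ, hφ⟩ := Spec.map_surjective (S.fromSpecResidueField s)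
  have hker : RingHom.ker φ.hom = IsLocalRing.maximalIdeal R := by
    have h : (S.fromSpecResidueField s) (IsLocalRing.closedPoint (S.residueField s)) = s :=
      Scheme.fromSpecResidueField_apply s _
    rw [← hφ] at h
    have h' := congrArg PrimeSpectrum.asIdeal h
    change Ideal.comap φ.hom (IsLocalRing.maximalIdeal (S.residueField s)) = IsLocalRing.maximalIdeal R at h'
    rwa [show IsLocalRing.maximalIdeal (S.residueField s) = ⊥ from
      IsLocalRing.isField_iff_maximalIdeal_eq.1 (Field.toIsField _)] at h'
  letI : Algebra (IsLocalRing.ResidueField R) (S.residueField s) :=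
    (Ideal.Quotient.lift (IsLocalRing.maximalIdeal R) φ.hom fun a ha => by rw [← hker] at ha; exact ha).toAlgebra
  letI : (f.fiber s).Over (Spec (CommRingCat.of (S.residueField s))) := ⟨f.fiberToSpecResidueField s⟩
  have hsq' : IsPullback (f.fiberι s) (f.fiber s ↘ Spec (CommRingCat.of (S.residueField s))) f
      (Spec.map (CommRingCat.ofHom (algebraMap (IsLocalRing.ResidueField R) (S.residueField s))) ≫
        Spec.map (CommRingCat.ofHom (IsLocalRing.residue R))) := by
    have e : Spec.map (CommRingCat.ofHom (algebraMap (IsLocalRing.ResidueField R) (S.residueField s))) ≫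
        Spec.map (CommRingCat.ofHom (IsLocalRing.residue R)) = S.fromSpecResidueField s := by
      rw [← Spec.map_comp, ← hφ]; rfl
    rw [e]
    exact IsPullback.of_hasPullback f _
  obtain ⟨D, -⟩ := exists_ext f hsq hgi (S.residueField s) (f.fiber s) (f.fiberι s) hsq'
  exact ⟨MorphismProperty.of_isPullback D.sq D.geometricallyReduced, D.dim_le hdim⟩

include hsq hgi hdim in
/-- Every geometric fibre is reduced of dimension at most one. -/
theorem fibre_props (Ω : Type u) [Field Ω] (t : Spec (CommRingCat.of Ω) ⟶ Spec (CommRingCat.of R)) {Y : Scheme.{u}}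
    (iY : Y ⟶ X) (qY : Y ⟶ Spec (CommRingCat.of Ω)) (sq : IsPullback iY qY f t) :
    AlgebraicGeometry.IsReduced Y ∧ topologicalKrullDim Y ≤ (1 : ℕ) := by
  haveI := noetherian_total f
  let S := Spec (CommRingCat.of R)
  haveI : IsLocallyNoetherian S := inferInstance
  obtain ⟨hred, hd⟩ := closedFibre_props f hsq hgi hdim
  have hall : ∀ U : Set S, IsOpen U → IsLocalRing.closedPoint R ∈ U → ∀ y : S, y ∈ U := fun U hU h y =>
    (IsLocalRing.specializes_closedPoint y).mem_open hU h
  let pt : Spec (CommRingCat.of Ω) := IsLocalRing.closedPoint Ω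
  have hred' : GeometricallyReduced (f.fiberToSpecResidueField (t pt)) := hall _ (S0435.result f) hred (t pt)
  obtain ⟨V, hV, hdimV⟩ := S4921.result f (IsLocalRing.closedPoint R) fun x _ U hU => by
    obtain ⟨W, hWU, hW, hxW⟩ := mem_nhds_iff.1 hU
    exact Filter.mem_of_superset ((f.isOpenMap W hW).mem_nhds ⟨x, hxW, rfl⟩) (Set.image_mono hWU)
  obtain ⟨V', hV'V, hV', hcV'⟩ := mem_nhds_iff.1 hV
  haveI : IsProper qY := MorphismProperty.of_isPullback sq inferInstance
  refine ⟨?_, ?_⟩
  · obtain ⟨⟨s, α⟩, hα⟩ := (Scheme.SpecToEquivOfField Ω S).symm.surjective t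
    subst hα
    change IsPullback iY qY f (Spec.map α ≫ S.fromSpecResidueField s) at sq
    have hs : (Spec.map α ≫ S.fromSpecResidueField s) pt = s := Scheme.fromSpecResidueField_apply s _
    change GeometricallyReduced (f.fiberToSpecResidueField ((Spec.map α ≫ S.fromSpecResidueField s) pt)) at hred'
    rw [hs] at hred'
    letI : Algebra (S.residueField s) Ω := α.hom.toAlgebra
    let m : Y ⟶ f.fiber s := pullback.lift iY (qY ≫ Spec.map α) (by rw [sq.w, Category.assoc])
    have hpb : IsPullback m qY (f.fiberToSpecResidueField s)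
        (Spec.map (CommRingCat.ofHom (algebraMap (S.residueField s) Ω))) := by
      refine IsPullback.of_right ?_ (pullback.lift_snd _ _ _) (IsPullback.of_hasPullback f _)
      rw [show m ≫ pullback.fst f (S.fromSpecResidueField s) = iY from pullback.lift_fst _ _ _]
      exact sq
    haveI : AlgebraicGeometry.IsReduced (pullback (f.fiberToSpecResidueField s)
        (Spec.map (CommRingCat.ofHom (algebraMap (S.residueField s) Ω)))) :=
      pullback_of_geometrically hred'.geometrically_isReduced Ω _
    exact isReduced_of_isOpenImmersion hpb.isoPullback.hom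
  · have h1 : topologicalKrullDim ↥(qY.fiber pt) ≤ (1 : ℕ) := by
      rw [S9777.result f t qY iY sq pt, hdimV _ (hV'V (hall V' hV' hcV' (t pt)))]
      exact hd
    refine le_trans ?_ h1
    let e : ↥Y ≃ₜ ↥(qY.fiber pt) := (Homeomorph.Set.univ ↥Y).symm.trans
      ((Homeomorph.setCongr (Set.eq_univ_of_forall fun y => Subsingleton.elim (qY y) pt).symm).trans
        (qY.fiberHomeo pt).symm)
    exact e.isInducing.topologicalKrullDim_le

/-- The completion of the base. -/
theorem exists_completion (ϖ : R) (hϖ : IsLocalRing.maximalIdeal R = Ideal.span {ϖ}) :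
    ∃ (R' : Type u) (_ : CommRing R') (_ : IsDomain R') (_ : IsDiscreteValuationRing R') (_ : Algebra R R'),
      Module.Flat R R' ∧ IsLocalRing.maximalIdeal R' = Ideal.span {algebraMap R R' ϖ} ∧
      IsAdicComplete (Ideal.span {algebraMap R R' ϖ}) R' ∧ Function.Injective (algebraMap R R') := by
  obtain ⟨hdom, hdvr, hinj⟩ := HTopAwn.isDVR_completion (V := R)
  have hm : IsLocalRing.maximalIdeal (AdicCompletion (IsLocalRing.maximalIdeal R) R) =
      Ideal.span {algebraMap R _ ϖ} := by
    rw [AdicCompletion.maximalIdeal_eq_map]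
    exact (congrArg (Ideal.map (algebraMap R (AdicCompletion (IsLocalRing.maximalIdeal R) R))) hϖ).trans
      (by rw [Ideal.map_span, Set.image_singleton])
  refine ⟨AdicCompletion (IsLocalRing.maximalIdeal R) R, inferInstance, hdom, hdvr, inferInstance,
    AdicCompletion.flat_of_isNoetherian _, hm, ?_, hinj⟩
  rw [← hm]
  infer_instance

end Groth.Agent.TFGeo7

end
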