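import Groth.Agent.TFQuot7.Chain
import Groth.Agent.TFGeo7.Family
import Groth.Agent.S1026
import Groth.Agent.Bounded.Cokernel
import Groth.Agent.AmpleVan.NakayamaFibre
import Groth.Agent.Lib.CurveLinear
import Groth.Agent.HilbFib.Basic

/-! Chains over a completion and the Euler characteristic of the fibres of their limits. -/

set_option autoImplicit false
set_option maxHeartbeats 400000
set_option backward.isDefEq.respectTransparency false
set_option backward.isDefEq.respectTransparency.types false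
set_option linter.unusedSectionVars false
set_option linter.style.haveILetI false

universe u

open CategoryTheory CategoryTheory.Limits AlgebraicGeometry TopologicalSpace Opposite

noncomputable section

namespace Groth.Agent.TFGeo7

open Groth.Agent Groth.Agent.TFQuot7 CycK

variable {X : Scheme.{u}} {R : Type u} [CommRing R] [IsDomain R] [IsDiscreteValuationRing R]
  (f : X ⟶ Spec (CommRingCat.of R))

theorem toGlobal_comp {A B : Type u} [CommRing A] [CommRing B] {Y : Scheme.{u}} (q : Y ⟶ Spec (CommRingCat.of B))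
    (φ : A →+* B) (a : A) : Coh.toGlobal (q ≫ Spec.map (CommRingCat.ofHom φ)) a = Coh.toGlobal q (φ a) := by
  show (q ≫ Spec.map (CommRingCat.ofHom φ)).appTop ((Scheme.ΓSpecIso (CommRingCat.of A)).inv a) =
    q.appTop ((Scheme.ΓSpecIso (CommRingCat.of B)).inv (φ a))
  simp only [Scheme.Hom.comp_appTop, ConcreteCategory.comp_apply]
  exact congrArg q.appTop (ConcreteCategory.congr_hom (Scheme.ΓSpecIso_inv_naturality (CommRingCat.ofHom φ)) a).symm

theorem toGlobal_comp_left {A : Type u} [CommRing A] {Z Y : Scheme.{u}} (g : Z ⟶ Y)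
    (q : Y ⟶ Spec (CommRingCat.of A)) (a : A) : Coh.toGlobal (g ≫ q) a = g.appTop (Coh.toGlobal q a) := by
  show (g ≫ q).appTop ((Scheme.ΓSpecIso (CommRingCat.of A)).inv a) = _
  simp only [Scheme.Hom.comp_appTop, ConcreteCategory.comp_apply]
  rfl

theorem isZero_of_epi_tMap [IsProper f] (ϖ : R) (hϖ : IsLocalRing.maximalIdeal R = Ideal.span {ϖ}) {Q : X.Modules}
    (hQ : Coh.IsCoh Q) [Epi (tMap f Q ϖ)] : IsZero Q := by
  letI : X.Over (Spec (CommRingCat.of R)) := ⟨f⟩
  haveI : IsProper (X ↘ Spec (CommRingCat.of R)) := ‹IsProper f›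
  haveI : IsLocallyNoetherian X := LocallyOfFiniteType.isLocallyNoetherian f
  refine AmpleVan.isZero_of_fixed (A := R) hQ.1 fun U hU s => ?_
  haveI := QCoh.finite_sections hQ hU
  have htop : (⊤ : Submodule Γ(X, U) Γ(Q, U)) ≤
      (IsLocalRing.maximalIdeal R).map (AmpleVan.scal R U) • ⊤ := fun t _ => by
    obtain ⟨y, rfl⟩ := QCoh.app_surjective_of_epi hQ.1 hQ.1 (tMap f Q ϖ) hU t
    rw [tMap_app]
    refine Submodule.smul_mem_smul ?_ Submodule.mem_top
    exact Ideal.mem_map_of_mem _ (hϖ ▸ Ideal.mem_span_singleton_self ϖ)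
  obtain ⟨r, hr, hr0⟩ := Submodule.exists_sub_one_mem_and_smul_eq_zero_of_fg_of_le_smul _ ⊤
    Module.Finite.fg_top htop
  refine ⟨1 - r, ?_, by rw [sub_smul, one_smul, hr0 s Submodule.mem_top, sub_zero]⟩
  rw [← neg_sub]
  exact neg_mem hr

/-- A map onto a module modulo the uniformizer is onto. -/
theorem epi_of_epi_mod [IsProper f] (ϖ : R) (hϖ : IsLocalRing.maximalIdeal R = Ideal.span {ϖ}) {A M P : X.Modules}
    (hA : Coh.IsCoh A) (hM : Coh.IsCoh M) (q : A ⟶ M) (τ : M ⟶ P) [Epi (q ≫ τ)]
    (huniv : ∀ {B : X.Modules} (g : M ⟶ B), tMap f M ϖ ≫ g = 0 → ∃ g', τ ≫ g' = g) : Epi q := by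
  haveI := noetherian_total f
  haveI : Epi (tMap f (cokernel q) ϖ) := by
    refine Preadditive.epi_of_cancel_zero _ fun {B} u hu => ?_
    obtain ⟨h, hh⟩ := huniv (cokernel.π q ≫ u) (by
      rw [← Category.assoc, ← tMap_comm, Category.assoc, hu, comp_zero])
    have h0 : h = 0 := by
      rw [← cancel_epi (q ≫ τ), Category.assoc, hh, cokernel.condition_assoc, zero_comp, comp_zero]
    rw [← cancel_epi (cokernel.π q), ← hh, h0, comp_zero, comp_zero]
  exact Preadditive.epi_of_isZero_cokernel q (isZero_of_epi_tMap f ϖ hϖ (QCoh.isCoh_cokernel hA.1 hM q))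

/-- A map that is injective modulo the uniformizer into a module without torsion is injective. -/
theorem mono_of_exact_mod [IsProper f] (ϖ : R) (hϖ : IsLocalRing.maximalIdeal R = Ideal.span {ϖ})
    {A M P : X.Modules} (hA : Coh.IsCoh A) (hM : Coh.IsCoh M) (q : A ⟶ M) (τ : M ⟶ P) [Mono (tMap f M ϖ)]
    (w : tMap f A ϖ ≫ q ≫ τ = 0) (hex : (ShortComplex.mk _ _ w).Exact) : Mono q := by
  haveI := noetherian_total f
  haveI : Epi (tMap f (kernel q) ϖ) := by
    obtain ⟨A', p, hp, a, ha⟩ := hex.exact_up_to_refinements (kernel.ι q)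
      (show kernel.ι q ≫ q ≫ τ = 0 by rw [kernel.condition_assoc, zero_comp])
    change p ≫ kernel.ι q = a ≫ tMap f A ϖ at ha
    have h0 : a ≫ q = 0 := by
      rw [← cancel_mono (tMap f M ϖ), zero_comp, Category.assoc, tMap_comm f q ϖ, ← reassoc_of% ha,
        kernel.condition, comp_zero]
    have hp' : kernel.lift q a h0 ≫ tMap f (kernel q) ϖ = p := by
      rw [← cancel_mono (kernel.ι q), Category.assoc, ← tMap_comm, kernel.lift_ι_assoc, ha]
    exact epi_of_epi_fac hp'
  exact Preadditive.mono_of_isZero_kernel q (isZero_of_epi_tMap f ϖ hϖ (QCoh.isCoh_kernel hA hM q))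

/-! ### Base change of chains -/

section map

variable {R' : Type u} [CommRing R'] [IsDomain R'] [IsDiscreteValuationRing R'] [Algebra R R'] {X' : Scheme.{u}}
  (f' : X' ⟶ Spec (CommRingCat.of R')) (g : X' ⟶ X)
  (hg : g ≫ f = f' ≫ Spec.map (CommRingCat.ofHom (algebraMap R R')))

include hg in
theorem pullback_tMap (M : X.Modules) (a : R) :
    (Scheme.Modules.pullback g).map (tMap f M a) =
      tMap f' ((Scheme.Modules.pullback g).obj M) (algebraMap R R' a) := by
  show (Scheme.Modules.pullback g).map (Formal.smulModΓ M (Coh.toGlobal f a)) =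
    Formal.smulModΓ _ (Coh.toGlobal f' (algebraMap R R' a))
  rw [Bounded.pullback_smulModΓ, ← TFGeo7.toGlobal_comp_left, hg, TFGeo7.toGlobal_comp]

include hg in
theorem exists_map [Flat g] {ϖ : R} (C : Chain f ϖ) :
    ∃ C' : Chain f' (algebraMap R R' ϖ), ∃ (e : C'.I 0 ≅ (Scheme.Modules.pullback g).obj (C.I 0))
      (e' : C'.P 0 ≅ (Scheme.Modules.pullback g).obj (C.P 0)),
      e.inv ≫ C'.q 0 ≫ e'.hom = (Scheme.Modules.pullback g).map (C.q 0) := by
  let PG := Scheme.Modules.pullback g
  haveI := RGLib.Lim8.preservesFiniteLimits_pullback g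
  haveI := (Scheme.Modules.pullbackPushforwardAdjunction g).left_adjoint_additive
  have hex : ∀ n, ((ShortComplex.mk (C.ι n) (C.q n) (C.w n)).map PG).Exact := fun n => by
    haveI := C.monoι n
    refine ShortComplex.Exact.map ?_ PG
    rw [ShortComplex.exact_iff_exact_up_to_refinements]
    intro A x hx
    obtain ⟨b, hb⟩ := C.lift n x hx
    exact ⟨A, 𝟙 A, inferInstance, b, by rw [Category.id_comp]; exact hb.symm⟩
  let C' : Chain f' (algebraMap R R' ϖ) :=
    { I := fun n => PG.obj (C.I n)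
      P := fun n => PG.obj (C.P n)
      ι := fun n => PG.map (C.ι n)
      q := fun n => PG.map (C.q n)
      m := fun n => PG.map (C.m n)
      v := fun n => PG.mapIso (C.v n)
      monoι := fun n => haveI := C.monoι n; inferInstance
      epiq := fun n => haveI := C.epiq n; inferInstance
      w := fun n => by rw [← Functor.map_comp, C.w, Functor.map_zero]
      lift := fun n A a ha => by
        haveI := C.monoι n
        haveI : Mono ((ShortComplex.mk (C.ι n) (C.q n) (C.w n)).map PG).f :=
          show Mono (PG.map (C.ι n)) from inferInstance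
        exact ⟨(hex n).lift a ha, (hex n).lift_f a ha⟩
      mι := fun n => by rw [← Functor.map_comp, C.mι, pullback_tMap f f' g hg]
      vq := fun n => by rw [Functor.mapIso_hom, ← Functor.map_comp, C.vq, Functor.map_comp]
      coh := fun n => ZClosLib.isCoh_pullback g (C.coh n) }
  exact ⟨C', Iso.refl _, Iso.refl _, by simp [C', PG]⟩

end map

/-! ### Euler characteristics -/

theorem euler_fibre_eq {S : Scheme.{u}} (p : X ⟶ S) [IsProper p] {M : X.Modules} (hM : Coh.IsQCoh M)
    {Ω : Type u} [Field Ω] (t : Spec (CommRingCat.of Ω) ⟶ S) {Y : Scheme.{u}} [Y.Over (Spec (CommRingCat.of Ω))]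
    (iY : Y ⟶ X) (sq : IsPullback iY (Y ↘ Spec (CommRingCat.of Ω)) p t) :
    Curv2.euler Ω Y ((Scheme.Modules.pullback iY).obj M) =
      PerfAux.eulerChar p M (t (IsLocalRing.closedPoint Ω)) := by
  obtain ⟨⟨s, α⟩, hα⟩ := (Scheme.SpecToEquivOfField Ω S).symm.surjective t
  subst hα
  change IsPullback iY (Y ↘ Spec (CommRingCat.of Ω)) p (Spec.map α ≫ S.fromSpecResidueField s) at sq
  have hs : (Spec.map α ≫ S.fromSpecResidueField s) (IsLocalRing.closedPoint Ω) = s :=
    Scheme.fromSpecResidueField_apply s _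
  show _ = PerfAux.eulerChar p M ((Spec.map α ≫ S.fromSpecResidueField s) (IsLocalRing.closedPoint Ω))
  rw [hs, HilbFib.eulerChar_eq]
  letI : Algebra (S.residueField s) Ω := α.hom.toAlgebra
  letI : (p.fiber s).Over (Spec (CommRingCat.of (S.residueField s))) := ⟨p.fiberToSpecResidueField s⟩
  let m : Y ⟶ p.fiber s := pullback.lift iY ((Y ↘ Spec (CommRingCat.of Ω)) ≫ Spec.map α)
    (by rw [sq.w, Category.assoc])
  have hm : m ≫ p.fiberι s = iY := pullback.lift_fst _ _ _
  have hpb : IsPullback m (Y ↘ Spec (CommRingCat.of Ω))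
      (p.fiber s ↘ Spec (CommRingCat.of (S.residueField s)))
      (Spec.map (CommRingCat.ofHom (algebraMap (S.residueField s) Ω))) := by
    refine IsPullback.of_right ?_ (pullback.lift_snd _ _ _) (IsPullback.of_hasPullback p _)
    rw [show m ≫ pullback.fst p (S.fromSpecResidueField s) = iY from hm]
    exact sq
  haveI : IsProper (p.fiber s ↘ Spec (CommRingCat.of (S.residueField s))) := HilbFib.isProper_fibre p s
  haveI : IsNoetherian (p.fiber s) := CurveCohLib.isNoetherian_of_proper (k := S.residueField s) (X := p.fiber s)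
  haveI : IsProper (Y ↘ Spec (CommRingCat.of Ω)) := MorphismProperty.of_isPullback hpb inferInstance
  exact (CurveCohLib.euler_congr (k := Ω)
    ((Scheme.Modules.pullbackCongr hm.symm).app M ≪≫ (compIso m (p.fiberι s) M).symm)).trans
      (CurveBC.euler_eq (S.residueField s) Ω m hpb _ (QCoh.isQCoh_pullback _ hM))

/-- Euler characteristics of the fibres over field points are constant. -/
theorem euler_const [IsProper f] (ϖ : R) (hϖ : IsLocalRing.maximalIdeal R = Ideal.span {ϖ}) {M : X.Modules}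
    (hM : Coh.IsCoh M) [Mono (tMap f M ϖ)] {Ω Ω' : Type u} [Field Ω] [Field Ω'] [Algebra R Ω] [Algebra R Ω']
    {Y Y' : Scheme.{u}} [Y.Over (Spec (CommRingCat.of Ω))] [Y'.Over (Spec (CommRingCat.of Ω'))]
    (iY : Y ⟶ X) (iY' : Y' ⟶ X)
    (sq : IsPullback iY (Y ↘ Spec (CommRingCat.of Ω)) f (Spec.map (CommRingCat.ofHom (algebraMap R Ω))))
    (sq' : IsPullback iY' (Y' ↘ Spec (CommRingCat.of Ω')) f (Spec.map (CommRingCat.ofHom (algebraMap R Ω')))) :
    Curv2.euler Ω Y ((Scheme.Modules.pullback iY).obj M) =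
      Curv2.euler Ω' Y' ((Scheme.Modules.pullback iY').obj M) := by
  haveI := noetherian_total f
  haveI : LocallyOfFinitePresentation f := inferInstance
  have hfl := isFlatOver_of_mono_tMap f ϖ hϖ (M := M)
  haveI : PreconnectedSpace (Spec (CommRingCat.of R)) := by
    refine ⟨fun U V hU hV hcov ⟨a, _, ha⟩ ⟨b, _, hb⟩ => ?_⟩
    rcases hcov (Set.mem_univ (IsLocalRing.closedPoint R)) with hc | hc
    · exact ⟨b, trivial, (IsLocalRing.specializes_closedPoint b).mem_open hU hc, hb⟩
    · exact ⟨a, trivial, ha, (IsLocalRing.specializes_closedPoint a).mem_open hV hc⟩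
  have hlc := S1026.result f M (KZ.LFRes.isFP_of_isCoh hM) hfl
  rw [euler_fibre_eq f hM.1 _ iY sq, hlc.apply_eq_of_preconnectedSpace _
    ((Spec.map (CommRingCat.ofHom (algebraMap R Ω'))) (IsLocalRing.closedPoint Ω')), ← euler_fibre_eq f hM.1 _ iY' sq']

/-- The reduction becomes the module itself on a fibre over the closed point. -/
theorem isIso_pullback_mod (ϖ : R) {M P : X.Modules} (τ : M ⟶ P) (w : tMap f M ϖ ≫ τ = 0)
    (hS : (ShortComplex.mk _ _ w).ShortExact) {Ω' : Type u} [Field Ω'] [Algebra R Ω'] (hΩ' : algebraMap R Ω' ϖ = 0)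
    {Y' : Scheme.{u}} (iY' : Y' ⟶ X) (qY : Y' ⟶ Spec (CommRingCat.of Ω'))
    (sq' : IsPullback iY' qY f (Spec.map (CommRingCat.ofHom (algebraMap R Ω')))) :
    IsIso ((Scheme.Modules.pullback iY').map τ) := by
  haveI := hS.mono_f
  haveI := hS.epi_g
  let PY := Scheme.Modules.pullback iY'
  haveI := (Scheme.Modules.pullbackPushforwardAdjunction iY').left_adjoint_additive
  haveI : PY.IsLeftAdjoint := (Scheme.Modules.pullbackPushforwardAdjunction iY').isLeftAdjoint
  have h0 : PY.map (tMap f M ϖ) = 0 := by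
    show PY.map (Formal.smulModΓ M (Coh.toGlobal f ϖ)) = 0
    rw [Bounded.pullback_smulModΓ, ← TFGeo7.toGlobal_comp_left, sq'.w, TFGeo7.toGlobal_comp, hΩ', map_zero]
    refine Scheme.Modules.hom_ext _ _ fun U => ?_
    ext s
    show (show Γ(Y', U) from Coh.resTop Y' (op U) (0 : Coh.Γtop Y')) • s = 0
    rw [map_zero]; exact zero_smul _ s
  have hex := hS.exact.map_of_epi_of_preservesCokernel PY inferInstance inferInstance
  haveI : Mono ((ShortComplex.mk _ _ w).map PY).g := hex.mono_g h0
  haveI : Mono (PY.map τ) := ‹Mono ((ShortComplex.mk _ _ w).map PY).g›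
  exact isIso_of_mono_of_epi _

end Groth.Agent.TFGeo7

end
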