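import Groth.Agent.TFGeo7.Generic
import Groth.Agent.TFGeo7.Decomp

/-! Limits of chains over a completion, seen on a geometric generic fibre. -/

set_option autoImplicit false
set_option maxHeartbeats 400000
set_option backward.isDefEq.respectTransparency false
set_option backward.isDefEq.respectTransparency.types false
set_option linter.unusedSectionVars false
set_option linter.style.haveILetI false

universe u

open CategoryTheory CategoryTheory.Limits AlgebraicGeometry TopologicalSpace Opposite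

noncomputable section

namespace Groth.Agent.TFGeo7

open Groth.Agent Groth.Agent.TFQuot7 CycK

theorem isIso_lift_map {C D : Type*} [Category C] [Category D] [Preadditive C] [Preadditive D] [HasBinaryBiproducts C]
    [HasBinaryBiproducts D] (F : C ⥤ D) [F.Additive] {M A B : C} (a : M ⟶ A) (b : M ⟶ B)
    [IsIso (biprod.lift a b)] : IsIso (biprod.lift (F.map a) (F.map b)) := by
  refine ⟨biprod.desc (F.map (biprod.inl ≫ inv (biprod.lift a b))) (F.map (biprod.inr ≫ inv (biprod.lift a b))), ?_, ?_⟩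
  · rw [biprod.lift_desc, ← F.map_comp, ← F.map_comp, ← F.map_add, ← Category.assoc, ← Category.assoc,
      ← Preadditive.add_comp, ← F.map_id]
    congr 1
    rw [IsIso.comp_inv_eq, Category.id_comp]
    apply biprod.hom_ext <;> simp
  · have ha : inv (biprod.lift a b) ≫ a = biprod.fst := by rw [IsIso.inv_comp_eq, biprod.lift_fst]
    have hb : inv (biprod.lift a b) ≫ b = biprod.snd := by rw [IsIso.inv_comp_eq, biprod.lift_snd]
    apply biprod.hom_ext' <;> apply biprod.hom_ext <;>
      simp only [Category.assoc, biprod.inl_desc_assoc, biprod.inr_desc_assoc, biprod.lift_fst, biprod.lift_snd,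
        Category.comp_id, biprod.inl_fst, biprod.inl_snd, biprod.inr_fst, biprod.inr_snd, ← F.map_comp, ha, hb,
        CategoryTheory.Functor.map_id, Functor.map_zero]

section support

variable {X : Scheme.{u}} {R : Type u} [CommRing R] [IsDomain R] [IsDiscreteValuationRing R]
  (f : X ⟶ Spec (CommRingCat.of R)) (ϖ : R)

theorem notMem_of_mem_basicOpen {U : X.Opens} {x : X} (hx : x ∈ X.basicOpen (tSec f U ϖ)) :
    ϖ ∉ (f x).asIdeal := by
  have h1 : x ∈ X.basicOpen (show Γ(X, ⊤) from Coh.toGlobal f ϖ) := by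
    rw [tSec, Scheme.basicOpen_res] at hx
    exact hx.2
  have h2 : f x ∈ (Spec (CommRingCat.of R)).basicOpen ((Scheme.ΓSpecIso (CommRingCat.of R)).inv ϖ) := by
    have := (Scheme.preimage_basicOpen_top f ((Scheme.ΓSpecIso (CommRingCat.of R)).inv ϖ)).ge h1
    exact this
  rw [basicOpen_eq_of_affine'] at h2
  simp at h2
  exact h2

theorem sl_tMap (M : X.Modules) (y : X) (v : M.presheaf.stalk y) :
    sl (tMap f M ϖ) y v = X.presheaf.germ ⊤ y trivial (Coh.toGlobal f ϖ) • v := by
  obtain ⟨U, hy, s, rfl⟩ := M.presheaf.exists_germ_eq (x := y) v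
  rw [sl_germ, tMap_app, QCoh.germ_smul', tSec, TopCat.Presheaf.germ_res_apply]

theorem exists_generic_mem_support {F : X.Modules} (hF : Coh.IsQCoh F) [Mono (tMap f F ϖ)] (hne : ¬ IsZero F) :
    ∃ x ∈ CohB1.support F, ϖ ∉ (f x).asIdeal := by
  by_contra hc
  push Not at hc
  refine hne (QCoh.isZero_of_app_eq_zero hF fun V s => ?_)
  have h0 : F.presheaf.map (homOfLE (X.basicOpen_le (tSec f V.1 ϖ))).op s = 0 := by
    refine TopCat.Presheaf.section_ext ⟨F.presheaf, F.isSheaf⟩ _ _ _ fun x hx => ?_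
    haveI : Subsingleton (F.presheaf.stalk x) :=
      not_not.1 fun h => notMem_of_mem_basicOpen f ϖ hx (hc x h)
    exact Subsingleton.elim _ _
  obtain ⟨n, hn⟩ := QCoh.exists_pow_smul_eq_zero hF V.2 _ s h0
  have hi : ∀ t : Γ(F, V.1), tSec f V.1 ϖ • t = 0 → t = 0 := fun t ht =>
    QCoh.app_injective (tMap f F ϖ) V.1 ((tMap_app f F ϖ V.1 t).trans (ht.trans (map_zero _).symm))
  clear h0
  induction n with
  | zero => simpa using hn
  | succ n ih => exact ih (hi _ (by rw [← mul_smul, ← pow_succ']; exact hn))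

variable {Ω : Type u} [Field Ω] [Algebra R Ω] (hΩ : Function.Injective (algebraMap R Ω))
  {Y : Scheme.{u}} {iY : Y ⟶ X} {qY : Y ⟶ Spec (CommRingCat.of Ω)}
  (sq : IsPullback iY qY f (Spec.map (CommRingCat.ofHom (algebraMap R Ω))))

include hΩ sq in
theorem not_isZero_generic (hϖ : IsLocalRing.maximalIdeal R = Ideal.span {ϖ}) {F : X.Modules} (hF : Coh.IsCoh F) [Mono (tMap f F ϖ)] (hne : ¬ IsZero F) :
    ¬ IsZero ((Scheme.Modules.pullback iY).obj F) := fun hz => by
  obtain ⟨x, hx, hxϖ⟩ := exists_generic_mem_support f ϖ hF.1 hne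
  have hbot : (f x).asIdeal = ⊥ := by
    by_contra h
    haveI : (f x).asIdeal.IsMaximal := (f x).isPrime.isMaximal h
    refine hxϖ ?_
    rw [IsLocalRing.eq_maximalIdeal ‹(f x).asIdeal.IsMaximal›, hϖ]
    exact Ideal.mem_span_singleton_self ϖ
  have e : f x = (Spec.map (CommRingCat.ofHom (algebraMap R Ω))) (IsLocalRing.closedPoint Ω) := by
    apply PrimeSpectrum.ext
    rw [hbot]
    show _ = Ideal.comap (algebraMap R Ω) (IsLocalRing.maximalIdeal Ω)
    rw [IsLocalRing.isField_iff_maximalIdeal_eq.1 (Field.toIsField Ω)]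
    exact ((RingHom.injective_iff_ker_eq_bot _).1 hΩ).symm
  obtain ⟨y, hy, -⟩ := Scheme.exists_preimage_of_isPullback sq x _ e
  have hmem : y ∈ CohB1.support ((Scheme.Modules.pullback iY).obj F) :=
    (QCoh.support_pullback iY hF.1 hF.2).ge (show iY y ∈ CohB1.support F from hy.symm ▸ hx)
  exact hmem (subsingleton_stalk_of_isZero hz y)

include hΩ sq in
theorem flat_generic : Flat iY := by
  refine MorphismProperty.of_isPullback sq.flip ?_
  rw [HasRingHomProperty.Spec_iff (P := @Flat)]
  show (algebraMap R Ω).Flat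
  rw [RingHom.flat_algebraMap_iff]
  haveI : Module.IsTorsionFree R Ω := by
    rw [Module.isTorsionFree_iff_algebraMap_injective]; exact hΩ
  infer_instance

end support

section bc

variable {R : Type u} [CommRing R] [IsDomain R] [IsDiscreteValuationRing R] {X : Scheme.{u}}
  (f : X ⟶ Spec (CommRingCat.of R)) [IsProper f] {Xs : Scheme.{u}}
  [Xs.Over (Spec (CommRingCat.of (IsLocalRing.ResidueField R)))] (i : Xs ⟶ X)
  (hsq : IsPullback i (Xs ↘ Spec (CommRingCat.of (IsLocalRing.ResidueField R))) f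
    (Spec.map (CommRingCat.ofHom (IsLocalRing.residue R))))
  (ϖ : R) (hϖ : IsLocalRing.maximalIdeal R = Ideal.span {ϖ})
  {R' : Type u} [CommRing R'] [IsDomain R'] [IsDiscreteValuationRing R'] [Algebra R R']
  (hϖ' : IsLocalRing.maximalIdeal R' = Ideal.span {algebraMap R R' ϖ})
  {X' : Scheme.{u}} (f' : X' ⟶ Spec (CommRingCat.of R')) (g : X' ⟶ X)
  (hpb : IsPullback g f' f (Spec.map (CommRingCat.ofHom (algebraMap R R'))))

/-- `F` is the limit, over the completion, of the chain that begins with `π`. -/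
structure IsLim {J : X.Modules} {G : Xs.Modules} (π : (Scheme.Modules.pullback i).obj J ⟶ G) (F : X'.Modules)
    (p : (Scheme.Modules.pullback g).obj J ⟶ F)
    (τ : F ⟶ (Scheme.Modules.pullback g).obj ((Scheme.Modules.pushforward i).obj G)) : Prop where
  coh : Coh.IsCoh F
  epi : Epi p
  fac : p ≫ τ = (Scheme.Modules.pullback g).map (qMap i π)
  w : tMap f' F (algebraMap R R' ϖ) ≫ τ = 0
  short : (ShortComplex.mk _ _ w).ShortExact

include hpb in
theorem proper_bc : IsProper f' := MorphismProperty.of_isPullback hpb inferInstance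

include hpb in
theorem flat_bc [Module.Flat R R'] : Flat g := by
  refine MorphismProperty.of_isPullback hpb.flip ?_
  rw [HasRingHomProperty.Spec_iff (P := @Flat)]
  show (algebraMap R R').Flat
  exact RingHom.flat_algebraMap_iff.2 inferInstance

include hϖ hϖ' hpb in
theorem surjective_bc (hinj : Function.Injective (algebraMap R R')) : Surjective g := by
  haveI : Surjective (Spec.map (CommRingCat.ofHom (algebraMap R R'))) := by
    refine ⟨fun P => ?_⟩
    by_cases h : P.asIdeal = ⊥
    · refine ⟨⟨⊥, Ideal.isPrime_bot⟩, PrimeSpectrum.ext ?_⟩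
      rw [h]
      exact (RingHom.injective_iff_ker_eq_bot _).1 hinj
    · refine ⟨IsLocalRing.closedPoint R', PrimeSpectrum.ext ?_⟩
      haveI := P.isPrime.isMaximal h
      show Ideal.comap (algebraMap R R') (IsLocalRing.maximalIdeal R') = P.asIdeal
      rw [IsLocalRing.eq_maximalIdeal ‹P.asIdeal.IsMaximal›]
      refine ((IsLocalRing.maximalIdeal.isMaximal R).eq_of_le (Ideal.IsPrime.ne_top inferInstance) ?_).symm
      rw [hϖ, hϖ', Ideal.span_le, Set.singleton_subset_iff]
      exact Ideal.mem_span_singleton_self _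
  exact MorphismProperty.of_isPullback hpb.flip inferInstance

include hpb in
theorem exists_lim [Module.Flat R R'] [IsAdicComplete (Ideal.span {algebraMap R R' ϖ}) R'] (C : Chain f ϖ)
    {J : X.Modules} {G : Xs.Modules} (π : (Scheme.Modules.pullback i).obj J ⟶ G) (e : C.I 0 ≅ J)
    (e' : C.P 0 ≅ (Scheme.Modules.pushforward i).obj G) (hq : e.inv ≫ C.q 0 ≫ e'.hom = qMap i π)
    (hϖ' : IsLocalRing.maximalIdeal R' = Ideal.span {algebraMap R R' ϖ}) :
    ∃ F p τ, IsLim (X' := X') i ϖ f' g π F p τ := by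
  haveI := proper_bc f f' g hpb
  haveI := flat_bc f f' g hpb
  haveI := noetherian_total f'
  let PG := Scheme.Modules.pullback g
  obtain ⟨C', a, a', ha⟩ := exists_map f f' g hpb.w C
  haveI : IsNoetherianRing R' := inferInstance
  obtain ⟨F, p, τ, hF, hm, hpτ, hτ0, huniv⟩ := C'.exists_limit
  let b : C'.I 0 ≅ PG.obj J := a ≪≫ PG.mapIso e
  let b' : C'.P 0 ≅ PG.obj ((Scheme.Modules.pushforward i).obj G) := a' ≪≫ PG.mapIso e'
  haveI := C'.epiq 0
  haveI : Epi τ := epi_of_epi_fac hpτ
  haveI : Epi (p ≫ τ) := by rw [hpτ]; infer_instance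
  haveI := hm
  haveI : Epi p := epi_of_epi_mod f' _ hϖ' (C'.coh 0) hF p τ huniv
  have hw : tMap f' F (algebraMap R R' ϖ) ≫ τ ≫ b'.hom = 0 := by rw [reassoc_of% hτ0, zero_comp]
  refine ⟨F, b.inv ≫ p, τ ≫ b'.hom, hF, epi_comp _ _, ?_, hw, ?_⟩
  · rw [Category.assoc, reassoc_of% hpτ, ← hq, Functor.map_comp, Functor.map_comp, ← ha]
    simp [b, b', PG]
  · refine ShortComplex.shortExact_of_iso (ShortComplex.isoMk (Iso.refl _) (Iso.refl _) b') (S₁ := ShortComplex.mk _ _ hτ0) ?_
    have hex : (ShortComplex.mk _ _ hτ0).Exact := ShortComplex.exact_of_g_is_cokernel _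
      (CokernelCofork.IsColimit.ofπ' τ hτ0 fun {A} v hv => ⟨(huniv v hv).choose, (huniv v hv).choose_spec⟩)
    exact ShortComplex.ShortExact.mk' hex hm inferInstance

include hsq hϖ hpb in
/-- The reduction of a flat module is short exact over the completion. -/
theorem isLim_self [Module.Flat R R'] {J : X.Modules} (hJ : Coh.IsCoh J) (hfl : FlatMod.IsFlatOver f J) :
    IsLim (X' := X') i ϖ f' g (𝟙 ((Scheme.Modules.pullback i).obj J)) ((Scheme.Modules.pullback g).obj J) (𝟙 _)
      ((Scheme.Modules.pullback g).map ((Scheme.Modules.pullbackPushforwardAdjunction i).unit.app J)) := by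
  haveI := flat_bc f f' g hpb
  haveI := noetherian_total f
  haveI := isClosedImmersion_i f i hsq ϖ hϖ
  haveI := mono_tMap f ϖ hϖ hJ.1 hfl
  haveI := RGLib.Lim8.preservesFiniteLimits_pullback g
  haveI := (Scheme.Modules.pullbackPushforwardAdjunction g).left_adjoint_additive
  let η := (Scheme.Modules.pullbackPushforwardAdjunction i).unit.app J
  have hP := QCoh.isQCoh_pushforward i (QCoh.isQCoh_pullback i hJ.1)
  haveI : Epi η := epi_of_affine _ hJ.1 hP fun U => (QCoh.unit_app_closed i hJ.1 U.2).1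
  have h0 : tMap f J ϖ ≫ η = 0 := by
    refine (tMap_comm f η ϖ).symm.trans ?_
    erw [tMap_push_eq_zero f i hsq ϖ hϖ]
    exact comp_zero
  have hS : (ShortComplex.mk _ _ h0).ShortExact := ShortComplex.ShortExact.mk'
    (exact_of_affine _ hJ.1 hP fun U s hs => by
      obtain ⟨y, hy⟩ := (unit_app_eq_zero_iff f i hsq ϖ hϖ hJ.1 U s).1 hs
      exact ⟨y, (tMap_app f J ϖ U.1 y).trans hy⟩) ‹Mono (tMap f J ϖ)› ‹Epi η›
  refine ⟨ZClosLib.isCoh_pullback g hJ, inferInstance, ?_, ?_, ?_⟩
  · rw [Category.id_comp, qMap, CategoryTheory.Functor.map_id]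
    exact congrArg _ (Category.comp_id _).symm
  · rw [← pullback_tMap f f' g hpb.w, ← Functor.map_comp, h0, Functor.map_zero]
  · refine ShortComplex.shortExact_of_iso
      (S₁ := (ShortComplex.mk _ _ h0).map (Scheme.Modules.pullback g))
      (ShortComplex.isoMk (Iso.refl _) (Iso.refl _) (Iso.refl _) ?_ ?_) (hS.map_of_exact (Scheme.Modules.pullback g))
    · simp [pullback_tMap f f' g hpb.w]
    · simp [η]

variable {i ϖ f' g} {J : X.Modules} {G : Xs.Modules} {π : (Scheme.Modules.pullback i).obj J ⟶ G} {F : X'.Modules}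
  {p : (Scheme.Modules.pullback g).obj J ⟶ F}
  {τ : F ⟶ (Scheme.Modules.pullback g).obj ((Scheme.Modules.pushforward i).obj G)}
  (L : IsLim i ϖ f' g π F p τ)

theorem mem_support_push_iff [IsClosedImmersion i] (hP : Coh.IsCoh ((Scheme.Modules.pushforward i).obj G)) (z : Xs) :
    i z ∈ CohB1.support ((Scheme.Modules.pushforward i).obj G) ↔ z ∈ CohB1.support G := by
  rw [← Set.mem_preimage, ← QCoh.support_pullback i hP.1 hP.2]
  haveI := KZ.ClosedDev.isIso_counit i hP.1
  let e := asIso ((Scheme.Modules.pullbackPushforwardAdjunction i).counit.app G)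
  refine not_congr ⟨fun h => subsingleton_of_forall_eq 0 fun v => ?_, fun h => subsingleton_of_forall_eq 0 fun v => ?_⟩
  · obtain ⟨w, hw⟩ := sl_surjective e.hom z v
    rw [← hw]
    exact (congrArg _ (@Subsingleton.elim _ h w 0)).trans (map_zero _)
  · obtain ⟨w, hw⟩ := sl_surjective e.inv z v
    rw [← hw]
    exact (congrArg _ (@Subsingleton.elim _ h w 0)).trans (map_zero _)

theorem not_isZero_push_bc [IsClosedImmersion i] [Surjective g] (hP : Coh.IsCoh ((Scheme.Modules.pushforward i).obj G))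
    (hne : (CohB1.support G).Nonempty) :
    ¬ IsZero ((Scheme.Modules.pullback g).obj ((Scheme.Modules.pushforward i).obj G)) := fun hz => by
  obtain ⟨z, hz'⟩ := hne
  obtain ⟨x, hx⟩ := Surjective.surj (f := g) (i z)
  have hmem := (mem_support_push_iff hP z).2 hz'
  rw [← hx] at hmem
  exact ((QCoh.support_pullback g hP.1 hP.2).ge hmem) (subsingleton_stalk_of_isZero hz x)

include L in
theorem IsLim.not_isZero [IsClosedImmersion i] [Surjective g] (hP : Coh.IsCoh ((Scheme.Modules.pushforward i).obj G))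
    (hne : (CohB1.support G).Nonempty) : ¬ IsZero F := fun hz =>
  haveI := L.short.epi_g
  not_isZero_push_bc hP hne (IsZero.of_epi τ hz)

include L hpb hϖ' in
theorem IsLim.not_isZero_generic [IsClosedImmersion i] [Surjective g]
    (hP : Coh.IsCoh ((Scheme.Modules.pushforward i).obj G)) (hne : (CohB1.support G).Nonempty)
    {Ω : Type u} [Field Ω] [Algebra R' Ω] (hΩ : Function.Injective (algebraMap R' Ω)) {Y : Scheme.{u}} {iY : Y ⟶ X'}
    {qY : Y ⟶ Spec (CommRingCat.of Ω)}
    (sq : IsPullback iY qY f' (Spec.map (CommRingCat.ofHom (algebraMap R' Ω)))) :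
    ¬ IsZero ((Scheme.Modules.pullback iY).obj F) :=
  haveI := L.short.mono_f
  TFGeo7.not_isZero_generic f' _ hΩ sq hϖ' L.coh (L.not_isZero hP hne)

end bc

end Groth.Agent.TFGeo7

end
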