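import Groth.Agent.TFGeo7.Field
import Groth.Agent.TFGeo7.Euler
import Groth.Agent.TFQuot7.Simple
import Groth.Agent.RGLib.GenPSheaf
import Groth.Agent.PicProd.Vert
import Groth.Agent.S4642
import Groth.Agent.H23.PicMul
import Groth.Agent.KZ.LFRes

/-! Semistability and decompositions after an extension of the base field. -/

set_option autoImplicit false
set_option maxHeartbeats 400000
set_option backward.isDefEq.respectTransparency false
set_option backward.isDefEq.respectTransparency.types false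
set_option linter.unusedSectionVars false
set_option linter.style.haveILetI false

universe u

open CategoryTheory CategoryTheory.Limits AlgebraicGeometry TopologicalSpace Opposite TensorProduct

noncomputable section

namespace Groth.Agent.TFGeo7

open Groth.Agent Groth.Agent.TFQuot7 CycK

/-! ### Invariance under isomorphisms -/

section Iso

variable {X : Scheme.{u}} [AlgebraicGeometry.IsNoetherian X]

theorem sl_bijective_of_isIso {M N : X.Modules} (φ : M ⟶ N) [IsIso φ] (y : X) : Function.Bijective (sl φ y) :=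
  ⟨sl_injective φ y, sl_surjective φ y⟩

theorem isTF1_congr {M N : X.Modules} (e : M ≅ N) (hM : TFOne.IsTF1 X M) : TFOne.IsTF1 X N := by
  refine ⟨QCoh.isCoh_of_iso_finite e.symm hM.1.1 fun V hV => QCoh.finite_sections hM.1 hV,
    isTorsionFree_of_mono hM.2.1 e.inv, fun y hy => ?_⟩
  · obtain ⟨l⟩ := hM.2.2 y hy
    exact ⟨(LinearEquiv.ofBijective (sl e.inv y) (sl_bijective_of_isIso e.inv y)).trans l⟩

theorem isQuotOn_comp_iso {M N G : X.Modules} {T : Set X} (e : M ≅ N) {π : N ⟶ G}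
    (hG : TFOne.IsQuotOn X N T G π) : TFOne.IsQuotOn X M T G (e.hom ≫ π) :=
  haveI := hG.1
  ⟨epi_comp _ _, hG.2⟩

variable {k : Type u} [Field k] {q : X ⟶ Spec (CommRingCat.of k)}

theorem isSimple_congr {M N : X.Modules} (e : M ≅ N) (hM : TFOne.IsSimple X k q M) : TFOne.IsSimple X k q N := by
  letI : X.Over (Spec (CommRingCat.of k)) := ⟨q⟩
  refine ⟨fun h => hM.1 (h.of_iso e), fun φ => ?_⟩
  obtain ⟨c, hc⟩ := hM.2 (e.hom ≫ φ ≫ e.inv)
  refine ⟨c, ?_⟩
  have h1 : φ = e.inv ≫ (e.hom ≫ φ ≫ e.inv) ≫ e.hom := by simp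
  rw [h1, hc, ← comp_smulMod e.hom c, Iso.inv_hom_id_assoc]

theorem rBeta_congr [IsProper q] {E E' : X.Modules} (e : E ≅ E') {r : ℕ} {T : Set X} (hT : IsClosed T)
    (G : X.Modules) : TFOne.rBeta X k q T hT E r G = TFOne.rBeta X k q T hT E' r G := by
  letI : X.Over (Spec (CommRingCat.of k)) := ⟨q⟩
  letI : (VecSt.subsch X T hT).Over (Spec (CommRingCat.of k)) := ⟨VecSt.subschι X T hT ≫ q⟩
  haveI : IsProper (VecSt.subsch X T hT ↘ Spec (CommRingCat.of k)) :=
    inferInstanceAs (IsProper (VecSt.subschι X T hT ≫ q))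
  unfold TFOne.rBeta Curv2.deg
  rw [CurveCohLib.euler_congr (k := k) ((Scheme.Modules.pullback (VecSt.subschι X T hT)).mapIso e)]

theorem isSemistable_congr [IsProper q] {M N E E' : X.Modules} (e : M ≅ N) (eE : E ≅ E') {r : ℕ}
    (hM : TFOne.IsSemistable X k q M E r) : TFOne.IsSemistable X k q N E' r :=
  ⟨isTF1_congr e hM.1, fun Z hZ hZs hne G π hG => by
    rw [← rBeta_congr eE hZ G]
    exact hM.2 Z hZ hZs hne G _ (isQuotOn_comp_iso e hG)⟩

theorem isQuasistableAtPt_congr [IsProper q] {M N E E' : X.Modules} (e : M ≅ N) (eE : E ≅ E') {r : ℕ} {p : X}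
    (hM : TFOne.IsQuasistableAtPt X k q M E r p) : TFOne.IsQuasistableAtPt X k q N E' r p :=
  ⟨isSemistable_congr e eE hM.1, fun Z hZ hZs hne hp G π hG => by
    rw [← rBeta_congr eE hZ G]
    exact hM.2 Z hZ hZs hne hp G _ (isQuotOn_comp_iso e hG)⟩

end Iso

/-! ### Field extensions -/

namespace Ext

variable {k K : Type u} [Field k] [Field K] [Algebra k K] {X Y : Scheme.{u}}
  [X.Over (Spec (CommRingCat.of k))] [Y.Over (Spec (CommRingCat.of K))] (D : Ext k K X Y)

include D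

theorem dim_le (hdim : topologicalKrullDim X ≤ (1 : ℕ)) : topologicalKrullDim Y ≤ (1 : ℕ) := by
  haveI := D.proper
  refine le_of_le_of_eq D.sq.isoPullback.hom.isOpenEmbedding.isInducing.topologicalKrullDim_le
    (S4642.result (k := k) (K := K) (X ↘ Spec (CommRingCat.of k))) |>.trans hdim

theorem isTF1_descend {M : X.Modules} (hMc : Coh.IsCoh M)
    (hN : TFOne.IsTF1 Y ((Scheme.Modules.pullback D.h).obj M)) : TFOne.IsTF1 X M := by
  haveI := D.flat
  refine ⟨hMc, fun x => ?_, fun x hx => ?_⟩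
  · obtain ⟨y, rfl⟩ := D.surjective.surj x
    letI : Algebra (X.presheaf.stalk (D.h y)) (Y.presheaf.stalk y) := (D.h.stalkMap y).hom.toAlgebra
    haveI : Module.FaithfullyFlat (X.presheaf.stalk (D.h y)) (Y.presheaf.stalk y) :=
      @Module.FaithfullyFlat.of_flat_of_isLocalHom _ _ _ _ _ _ _ (Flat.stalkMap D.h y) (D.h.toLRSHom.prop y)
    obtain ⟨l⟩ := QCoh.nonempty_pullStalkEquiv D.h hMc.1 y
    constructor
    intro r hr v w hvw
    have hr' : IsRegular (algebraMap (X.presheaf.stalk (D.h y)) (Y.presheaf.stalk y) r) := by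
      suffices hh : ∀ z, algebraMap (X.presheaf.stalk (D.h y)) (Y.presheaf.stalk y) r * z = 0 → z = 0 by
        exact ⟨fun a b hab => sub_eq_zero.1 (hh _ (by rw [mul_sub]; exact sub_eq_zero.2 hab)),
          fun a b hab => sub_eq_zero.1 (hh _ (by
            rw [mul_sub, mul_comm _ a, mul_comm _ b]; exact sub_eq_zero.2 hab))⟩
      intro z hz
      have h1 := Module.Flat.lTensor_preserves_injective_linearMap (M := Y.presheaf.stalk y)
        (LinearMap.lsmul (X.presheaf.stalk (D.h y)) (X.presheaf.stalk (D.h y)) r) hr.left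
      have h2 : (LinearMap.lTensor (Y.presheaf.stalk y)
          (LinearMap.lsmul (X.presheaf.stalk (D.h y)) (X.presheaf.stalk (D.h y)) r)) (z ⊗ₜ 1) = 0 := by
        rw [LinearMap.lTensor_tmul, LinearMap.lsmul_apply, TensorProduct.tmul_smul, TensorProduct.smul_tmul',
          Algebra.smul_def, hz, TensorProduct.zero_tmul]
      have h3 := congrArg (TensorProduct.rid (X.presheaf.stalk (D.h y)) (Y.presheaf.stalk y))
        ((injective_iff_map_eq_zero _).1 h1 _ h2)
      rwa [map_zero, TensorProduct.rid_tmul, one_smul] at h3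
    haveI := hN.2.1 y
    refine Module.FaithfullyFlat.tensorProduct_mk_injective (A := X.presheaf.stalk (D.h y))
      (B := Y.presheaf.stalk y) _ (l.symm.injective.eq_iff.1 ?_)
    refine hr'.isSMulRegular ?_
    show algebraMap _ (Y.presheaf.stalk y) r • l.symm (1 ⊗ₜ v) = algebraMap _ (Y.presheaf.stalk y) r • l.symm (1 ⊗ₜ w)
    rw [← map_smul, ← map_smul, algebraMap_smul, algebraMap_smul, ← TensorProduct.tmul_smul,
      ← TensorProduct.tmul_smul]
    exact congrArg (fun t => l.symm (1 ⊗ₜ t)) hvw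
  · obtain ⟨y, hy, rfl⟩ := D.exists_generic_over hx
    haveI := D.red
    haveI := D.reduced
    obtain ⟨l⟩ := QCoh.nonempty_pullStalkEquiv D.h hMc.1 y
    obtain ⟨e⟩ := hN.2.2 y hy
    letI : Algebra (X.presheaf.stalk (D.h y)) (Y.presheaf.stalk y) := (D.h.stalkMap y).hom.toAlgebra
    letI := (mem_genericPoints_iff.1 hx).toField
    letI := (mem_genericPoints_iff.1 hy).toField
    have h1 : Module.finrank (X.presheaf.stalk (D.h y)) (M.presheaf.stalk (D.h y)) = 1 := by
      rw [← Module.finrank_baseChange (R := Y.presheaf.stalk y), (l.symm.trans e).finrank_eq, Module.finrank_self]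
    haveI := Module.finite_of_finrank_eq_succ h1
    exact ⟨LinearEquiv.ofFinrankEq _ _ (h1.trans (Module.finrank_self _).symm)⟩

theorem chiT_pullback {E G : X.Modules} {r : ℕ} (hE : FlatMod.IsFinLocFreeOfRank r E) (hG : Coh.IsCoh G) :
    chiT (k := K) ((Scheme.Modules.pullback D.h).obj E) ((Scheme.Modules.pullback D.h).obj G) =
      chiT (k := k) E G := by
  haveI := D.proper'
  haveI := D.proper
  obtain ⟨a⟩ := H23.PicMul.pull D.h E G
  exact (CurveCohLib.euler_congr (k := K) a).symm.trans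
    (D.euler_pullback (CurveTensor.isCoh_tensor (finLocFree_of_rank hE) hG).1)

theorem beta_pullback (hdim : topologicalKrullDim X ≤ (1 : ℕ)) {E : X.Modules} {r : ℕ}
    (hE : FlatMod.IsFinLocFreeOfRank r E) {M : X.Modules} (hM : TFOne.IsTF1 X M)
    (hMY : TFOne.IsTF1 Y ((Scheme.Modules.pullback D.h).obj M)) {T : Set X} (hTu : IsUC T) (hT : IsClosed T)
    {G : X.Modules} {π : M ⟶ G} (hG : TFOne.IsQuotOn X M T G π) (hZ : IsClosed (D.h ⁻¹' T))
    {G' : Y.Modules} {π' : (Scheme.Modules.pullback D.h).obj M ⟶ G'}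
    (hG' : TFOne.IsQuotOn Y ((Scheme.Modules.pullback D.h).obj M) (D.h ⁻¹' T) G' π') :
    beta K ((Scheme.Modules.pullback D.h).obj E) r (D.h ⁻¹' T) hZ G' = beta k E r T hT G := by
  haveI := D.proper
  haveI := D.proper'
  haveI := D.red
  haveI := D.reduced
  haveI := D.noetherian'
  have hQ := D.isQuotOn_pullback hG
  obtain ⟨e, -⟩ := exists_iso_quot hMY.2.2 hG' hQ
  rw [show beta K ((Scheme.Modules.pullback D.h).obj E) r (D.h ⁻¹' T) hZ G' =
      beta K ((Scheme.Modules.pullback D.h).obj E) r (D.h ⁻¹' T) hZ ((Scheme.Modules.pullback D.h).obj G) by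
    unfold beta; rw [CurveCohLib.euler_congr (k := K) e],
    beta_eq_chiT (D.dim_le hdim) (KRR7.isFinLocFreeOfRank_pullback D.h hE) hZ (D.preimage_isUC hTu) hMY.2.2 hQ,
    beta_eq_chiT hdim hE hT hTu hM.2.2 hG, D.chiT_pullback hE hG.2.1]

/-- The `β` of a subcurve upstairs is the `β` of the subcurve below it. -/
theorem exists_below (hdim : topologicalKrullDim X ≤ (1 : ℕ)) {E : X.Modules} {r : ℕ}
    (hE : FlatMod.IsFinLocFreeOfRank r E) {M : X.Modules} (hM : TFOne.IsTF1 X M)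
    (hMY : TFOne.IsTF1 Y ((Scheme.Modules.pullback D.h).obj M)) {Z : Set Y} (hZ : IsClosed Z)
    (hZs : VecSt.IsSubcurve Y Z) (hne : Z ≠ Set.univ) {G' : Y.Modules}
    {π' : (Scheme.Modules.pullback D.h).obj M ⟶ G'}
    (hG' : TFOne.IsQuotOn Y ((Scheme.Modules.pullback D.h).obj M) Z G' π') :
    ∃ (T : Set X) (hT : IsClosed T) (G : X.Modules) (π : M ⟶ G), VecSt.IsSubcurve X T ∧ T ≠ Set.univ ∧
      Z = D.h ⁻¹' T ∧ TFOne.IsQuotOn X M T G π ∧
      beta K ((Scheme.Modules.pullback D.h).obj E) r Z hZ G' = beta k E r T hT G := by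
  haveI := D.noetherian
  haveI := D.red
  obtain ⟨T, hTu, rfl⟩ := D.exists_eq_preimage (IsUC.of_subcurve hZs)
  obtain ⟨G, π, hG⟩ := exists_quotOn hM hTu
  have hTne : T.Nonempty := by
    obtain ⟨S, _, ⟨C, hC⟩, hS⟩ := hZs
    haveI := D.noetherian'
    obtain ⟨z, hz⟩ := (‹S ⊆ irreducibleComponents (Y : Type u)› hC).1.nonempty
    exact ⟨D.h z, hS.ge ⟨C, hC, hz⟩⟩
  exact ⟨T, hTu.isClosed, G, π, hTu.subcurve hTne, fun h => hne (by rw [h, Set.preimage_univ]), rfl, hG,
    D.beta_pullback hdim hE hM hMY hTu _ hG hZ hG'⟩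

theorem semistable_pullback (hdim : topologicalKrullDim X ≤ (1 : ℕ)) {E : X.Modules} {r : ℕ}
    (hE : FlatMod.IsFinLocFreeOfRank r E) {M : X.Modules}
    (hMY : TFOne.IsTF1 Y ((Scheme.Modules.pullback D.h).obj M))
    (hM : TFOne.IsSemistable X k (X ↘ Spec (CommRingCat.of k)) M E r) :
    TFOne.IsSemistable Y K (Y ↘ Spec (CommRingCat.of K)) ((Scheme.Modules.pullback D.h).obj M)
      ((Scheme.Modules.pullback D.h).obj E) r :=
  ⟨hMY, fun Z hZ hZs hne G' π' hG' => by
    obtain ⟨T, hT, G, π, hTs, hTne, -, hG, he⟩ := D.exists_below hdim hE hM.1 hMY hZ hZs hne hG'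
    exact le_of_le_of_eq (hM.2 T hT hTs hTne G π hG) he.symm⟩

theorem quasistable_pullback (hdim : topologicalKrullDim X ≤ (1 : ℕ)) {E : X.Modules} {r : ℕ}
    (hE : FlatMod.IsFinLocFreeOfRank r E) {M : X.Modules}
    (hMY : TFOne.IsTF1 Y ((Scheme.Modules.pullback D.h).obj M)) {y : Y}
    (hM : TFOne.IsQuasistableAtPt X k (X ↘ Spec (CommRingCat.of k)) M E r (D.h y)) :
    TFOne.IsQuasistableAtPt Y K (Y ↘ Spec (CommRingCat.of K)) ((Scheme.Modules.pullback D.h).obj M)
      ((Scheme.Modules.pullback D.h).obj E) r y :=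
  ⟨D.semistable_pullback hdim hE hMY hM.1, fun Z hZ hZs hne hy G' π' hG' => by
    obtain ⟨T, hT, G, π, hTs, hTne, hZT, hG, he⟩ := D.exists_below hdim hE hM.1.1 hMY hZ hZs hne hG'
    exact lt_of_lt_of_eq (hM.2 T hT hTs hTne (show D.h y ∈ T from hZT.le hy) G π hG) he.symm⟩

theorem isIso_descend {A B : X.Modules} (hA : Coh.IsQCoh A) (hB : Coh.IsQCoh B) (φ : A ⟶ B)
    (h : IsIso ((Scheme.Modules.pullback D.h).map φ)) : IsIso φ := by
  haveI := D.flat
  haveI := RGLib.Lim8.preservesFiniteLimits_pullback D.h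
  have hs : ∀ y : X, ∃ _ : PUnit.{u + 2}, y ∈ Set.range D.h := fun y => ⟨⟨⟩, D.surjective.surj y⟩
  haveI := h
  haveI : Epi φ := RGLib.GenPSheaf.epi_of_pullback (fun _ : PUnit.{u + 2} => D.h) (fun _ => D.flat) hs hA hB φ
    fun _ => inferInstance
  haveI : Mono φ := Preadditive.mono_of_isZero_kernel φ
    (RGLib.GenPSheaf.isZero_of_pullback (fun _ : PUnit.{u + 2} => D.h) (fun _ => D.flat) hs (QCoh.isQCoh_kernel hA hB φ)
      fun _ => (isZero_kernel_of_mono ((Scheme.Modules.pullback D.h).map φ)).of_iso (PreservesKernel.iso _ φ))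
  exact isIso_of_mono_of_epi φ

theorem exists_decomp_of_not_simple [IsAlgClosed K] [Nonempty X] {M : X.Modules} (hM : TFOne.IsTF1 X M)
    (hMY : TFOne.IsTF1 Y ((Scheme.Modules.pullback D.h).obj M))
    (hns : ¬ TFOne.IsSimple Y K (Y ↘ Spec (CommRingCat.of K)) ((Scheme.Modules.pullback D.h).obj M)) :
    ∃ (T T' : Set X) (G G' : X.Modules) (π : M ⟶ G) (π' : M ⟶ G'), VecSt.IsSubcurve X T ∧ T ≠ Set.univ ∧
      VecSt.IsSubcurve X T' ∧ TFOne.IsQuotOn X M T G π ∧ TFOne.IsQuotOn X M T' G' π' ∧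
      IsIso (biprod.lift π π') := by
  haveI := D.proper
  haveI := D.proper'
  haveI := D.red
  haveI := D.reduced
  haveI := D.noetherian
  haveI := D.noetherian'
  haveI : Nonempty Y := ⟨(D.surjective.surj (Classical.arbitrary X)).choose⟩
  obtain ⟨y, hy, -, -⟩ := exists_generic_of_component
    (irreducibleComponent_mem_irreducibleComponents (Classical.arbitrary Y))
  have hnz := not_isZero_of_rkOne hMY.2.2 hy
  obtain ⟨φ, hφ⟩ : ∃ φ, ∀ c : K, φ ≠ Formal.smulMod K ((Scheme.Modules.pullback D.h).obj M) c := by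
    by_contra hc
    push Not at hc
    exact hns ⟨hnz, hc⟩
  have hgiY : ∀ (C : Set Y) (hC : C ∈ irreducibleComponents (Y : Type u)),
      GeometricallyIntegral (VecSt.subschι Y C (isClosed_of_mem_irreducibleComponents C hC) ≫
        (Y ↘ Spec (CommRingCat.of K))) := fun C hC => by
    haveI : AlgebraicGeometry.IsReduced (VecSt.subsch Y C (isClosed_of_mem_irreducibleComponents C hC)) :=
      H23.RedSub.isReduced_vanishingIdeal (⟨C, isClosed_of_mem_irreducibleComponents C hC⟩ : Closeds Y)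
    haveI : IrreducibleSpace ↥(VecSt.subsch Y C (isClosed_of_mem_irreducibleComponents C hC)) := by
      let ι := VecSt.subschι Y C (isClosed_of_mem_irreducibleComponents C hC)
      have hr : Set.range ι = C := range_subschι _
      rw [irreducibleSpace_def]
      refine ⟨?_, fun u v hu hv ⟨a, _, ha⟩ ⟨b, _, hb⟩ => ?_⟩
      · obtain ⟨c, hc⟩ := hC.1.1
        obtain ⟨a, -⟩ := hr.ge hc
        exact ⟨a, trivial⟩
      · obtain ⟨u', hu', rfl⟩ := ι.isClosedEmbedding.isInducing.isOpen_iff.1 hu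
        obtain ⟨v', hv', rfl⟩ := ι.isClosedEmbedding.isInducing.isOpen_iff.1 hv
        obtain ⟨c, hc, hcu, hcv⟩ := hC.1.2 u' v' hu' hv' ⟨ι a, hr.le ⟨a, rfl⟩, ha⟩ ⟨ι b, hr.le ⟨b, rfl⟩, hb⟩
        obtain ⟨d, rfl⟩ := hr.ge hc
        exact ⟨d, trivial, hcu, hcv⟩
    haveI := isIntegral_of_irreducibleSpace_of_isReduced
      (VecSt.subsch Y C (isClosed_of_mem_irreducibleComponents C hC))
    exact PicProd.geometricallyIntegral_of_isAlgClosed _
  obtain ⟨Z, Z', hZ, hZ', GZ, GZ', πZ, πZ', hZs, hZs', hZne, hZ'ne, hGZ, hGZ', hiso⟩ :=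
    TFQuot7.exists_decomp_of_not_simple K hgiY hMY φ hφ
  obtain ⟨T, hTu, rfl⟩ := D.exists_eq_preimage (IsUC.of_subcurve hZs)
  obtain ⟨T', hTu', rfl⟩ := D.exists_eq_preimage (IsUC.of_subcurve hZs')
  obtain ⟨G, π, hG⟩ := exists_quotOn hM hTu
  obtain ⟨G', π', hG'⟩ := exists_quotOn hM hTu'
  obtain ⟨y₁, -, hy₁⟩ := exists_generic_of_subcurve hZs
  obtain ⟨y₂, -, hy₂⟩ := exists_generic_of_subcurve hZs'
  refine ⟨T, T', G, G', π, π', hTu.subcurve ⟨_, hy₁⟩, fun h => hZne (by rw [h, Set.preimage_univ]),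
    hTu'.subcurve ⟨_, hy₂⟩, hG, hG', D.isIso_descend hM.1.1 (KZ.isCoh_biprod hG.2.1 hG'.2.1).1 _ ?_⟩
  obtain ⟨e, he⟩ := exists_iso_quot hMY.2.2 hGZ (D.isQuotOn_pullback hG)
  obtain ⟨e', he'⟩ := exists_iso_quot hMY.2.2 hGZ' (D.isQuotOn_pullback hG')
  haveI := (Scheme.Modules.pullbackPushforwardAdjunction D.h).left_adjoint_additive
  haveI : PreservesBinaryBiproducts (Scheme.Modules.pullback D.h) :=
    preservesBinaryBiproducts_of_preservesBiproducts _
  have h2 : (Scheme.Modules.pullback D.h).map (biprod.lift π π') ≫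
      ((Scheme.Modules.pullback D.h).mapBiprod G G').hom =
      biprod.lift πZ πZ' ≫ (biprod.mapIso e e').hom := by
    refine biprod.hom_ext _ _ ?_ ?_
    · rw [Functor.mapBiprod_hom, Category.assoc, biprod.lift_fst, ← Functor.map_comp, biprod.lift_fst,
        biprod.mapIso_hom, Category.assoc, biprod.map_fst, biprod.lift_fst_assoc]
      exact he.symm
    · rw [Functor.mapBiprod_hom, Category.assoc, biprod.lift_snd, ← Functor.map_comp, biprod.lift_snd,
        biprod.mapIso_hom, Category.assoc, biprod.map_snd, biprod.lift_snd_assoc]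
      exact he'.symm
  haveI := hiso
  haveI : IsIso ((Scheme.Modules.pullback D.h).map (biprod.lift π π') ≫
      ((Scheme.Modules.pullback D.h).mapBiprod G G').hom) := by rw [h2]; infer_instance
  exact IsIso.of_isIso_comp_right _ ((Scheme.Modules.pullback D.h).mapBiprod G G').hom

end Ext

end Groth.Agent.TFGeo7

end
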